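import Mathlib
import Cfsg.Agent.H62.FrameSL
import Cfsg.Agent.H60.CrossA
import Cfsg.Agent.H67.Cross
import Cfsg.Agent.KFacts.Mult.SpTwo
set_option linter.all false

/-!
# `Sp_{2m}(q)`: no perfect central extensions in cross characteristic

* `cdatum`: the root group datum `H67.Cross.CDatum` of the group of isometries of the symplectic form;
* `noPCov_cross`: `NoPCov r (Sp_{2m}(q))` for every prime `r` not dividing `q`.
-/

set_option autoImplicit false
set_option linter.unusedSectionVars false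
set_option linter.style.haveILetI false

namespace Cfsg.Agent.H62.SpCross

open CoxeterSystem Cfsg.Agent.ChevalleyStructure.CoxeterGeom Cfsg.Agent.Tits.Roots Cfsg.Agent.Nodes.TypeC
open Cfsg.Agent.Nodes.Comb Cfsg.Agent.Nodes.Reps Cfsg.Agent.Nodes.WittRoot Cfsg.Agent.Nodes.BNOf
open Cfsg.Agent.Nodes.WittRGD Cfsg.Agent.Nodes.RGDLib
open Cfsg.Agent.TitsThree Cfsg.Agent.TitsThree.Siegel Cfsg.Agent.TitsThree.WittFrame
  Cfsg.Agent.TitsThree.FrameCN Cfsg.Agent.TitsThree.SpIdent Cfsg.Agent.TitsThree.SpGen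
open Cfsg.Agent.H62.FrameSL Cfsg.Agent.H67 Cfsg.Agent.H67.Cross Cfsg.Agent.KFacts.MulOdd.Inst
open scoped MatrixGroups

universe u

/-- The model of `Sp` over the symplectic Witt frame. -/
noncomputable def model (m : ℕ) (F : Type u) [Field F] : Model (frame m F) (isos (form m F)) where
  I := isos (form m F)
  φ := MonoidHom.id _
  hX := (frame m F).isIso_X
  hZ := (frame m F).isIso_Z
  ker := fun v g hg => by
    have : g = 1 := hg
    rw [this]
    exact one_mem _
  gen l L h1 h2 := isos_eq_of_simple l L h1 fun c => h2 (adm c)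

theorem mem_X {m : ℕ} {F : Type u} [Field F] {x : Fin m → ℤ} {g : isos (form m F)} :
    g ∈ Cfsg.Agent.Nodes.WittModel.X (model m F) x ↔ g.1 ∈ rg (frame m F) x := by
  unfold Cfsg.Agent.Nodes.WittModel.X
  show g ∈ ((rg (frame m F) x).subgroupOf (isos (form m F))).map (MonoidHom.id _) ↔ _
  rw [Subgroup.map_id, Subgroup.mem_subgroupOf]

theorem mem_T {m : ℕ} {F : Type u} [Field F] {g : isos (form m F)} :
    g ∈ Cfsg.Agent.Nodes.WittModel.T (model m F) ↔ Mono (frame m F) g.1 id := by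
  unfold Cfsg.Agent.Nodes.WittModel.T
  show g ∈ ((Tor (frame m F) (isos (form m F))).subgroupOf (isos (form m F))).map (MonoidHom.id _) ↔ _
  rw [Subgroup.map_id, Subgroup.mem_subgroupOf]
  exact ⟨fun h => h.2, fun h => ⟨g.2, h⟩⟩

section

variable {m : ℕ} {F : Type u} [Field F]

theorem phiS_mem {i j : Fin m} (hij : i ≠ j) (g : SL(2, F)) : phiS (frame m F) hij g ∈ isos (form m F) := by
  have h1 : (phiS (frame m F) hij).range ≤ isos (form m F) := by
    rw [phiS_range]
    refine sup_le ?_ ?_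
    · rintro _ ⟨t, rfl⟩
      exact (frame m F).isIso_X _ _ _
    · rintro _ ⟨t, rfl⟩
      exact (frame m F).isIso_X _ _ _
  exact h1 ⟨g, rfl⟩

theorem phiL_mem (i : Fin m) (g : SL(2, F)) : phiL (frame m F) i g ∈ isos (form m F) := by
  have h1 : (phiL (frame m F) i).range ≤ isos (form m F) := by
    rw [phiL_range]
    refine sup_le ?_ ?_
    · rintro _ ⟨t, rfl⟩
      exact (frame m F).isIso_Z _ _
    · rintro _ ⟨t, rfl⟩
      exact (frame m F).isIso_Z _ _
  exact h1 ⟨g, rfl⟩

theorem X_eq (x : Fin m → ℤ) : Cfsg.Agent.Nodes.WittModel.X (model m F) x =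
    (rg (frame m F) x).subgroupOf (isos (form m F)) := by
  ext g
  rw [mem_X, Subgroup.mem_subgroupOf]

theorem rg_le (x : Fin m → ℤ) : rg (frame m F) x ≤ isos (form m F) :=
  (Cfsg.Agent.KFacts.Mult.SpTwo.amb m F).rg_le x

theorem Lv_eq (i : Fin m) : Lv (Cfsg.Agent.Nodes.WittModel.X (model m F)) i =
    (rg (frame m F) (sr i) ⊔ rg (frame m F) (-sr i)).subgroupOf (isos (form m F)) := by
  unfold Lv
  rw [X_eq, X_eq, ← Subgroup.subgroupOf_sup (rg_le _) (rg_le _)]

/-- The rank one groups. -/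
theorem exists_phi (i : Fin m) : ∃ φ : SL(2, F) →* isos (form m F), Function.Injective φ ∧
    φ.range = Lv (Cfsg.Agent.Nodes.WittModel.X (model m F)) i ∧
    ∀ g, φ g ∈ Cfsg.Agent.Nodes.WittModel.T (model m F) → g.1 0 1 = 0 ∧ g.1 1 0 = 0 := by
  have key : ∀ ψ : SL(2, F) →* ((Fin m ⊕ Fin m → F) ≃ₗ[F] (Fin m ⊕ Fin m → F)), Function.Injective ψ →
      ψ.range = rg (frame m F) (sr i) ⊔ rg (frame m F) (-sr i) →
      (∀ g, Mono (frame m F) (ψ g) id → g.1 0 1 = 0 ∧ g.1 1 0 = 0) →
      ∃ φ : SL(2, F) →* isos (form m F), Function.Injective φ ∧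
        φ.range = Lv (Cfsg.Agent.Nodes.WittModel.X (model m F)) i ∧
        ∀ g, φ g ∈ Cfsg.Agent.Nodes.WittModel.T (model m F) → g.1 0 1 = 0 ∧ g.1 1 0 = 0 := by
    intro ψ hψ hr hM
    have hmem : ∀ g, ψ g ∈ isos (form m F) := by
      intro g
      have h1 : ψ g ∈ rg (frame m F) (sr i) ⊔ rg (frame m F) (-sr i) := by
        rw [← hr]; exact ⟨g, rfl⟩
      exact (sup_le (rg_le _) (rg_le _)) h1
    refine ⟨ψ.codRestrict _ hmem, ?_, ?_, ?_⟩
    · intro a b hab
      exact hψ (congrArg Subtype.val hab)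
    · rw [Lv_eq, ← hr]
      ext y
      rw [Subgroup.mem_subgroupOf]
      constructor
      · rintro ⟨g, rfl⟩
        exact ⟨g, rfl⟩
      · rintro ⟨g, hg⟩
        exact ⟨g, Subtype.ext hg⟩
    · intro g hg
      exact hM g (mem_T.1 hg)
  by_cases hi : (i : ℕ) + 1 < m
  · have hnx : nx i = (⟨i + 1, hi⟩, false) := by unfold nx; rw [dif_pos hi]
    have hne : i ≠ (⟨i + 1, hi⟩ : Fin m) := by
      intro h
      have := congrArg Fin.val h
      simp at this
    refine key (phiS (frame m F) hne) (phiS_injective _ hne) ?_ fun g hg => phiS_mono _ hne hg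
    rw [phiS_range, rg_sr, rg_neg_sr, hnx]
    have h1 : PG (frame m F) (i, true) (⟨i + 1, hi⟩, false) = XG (frame m F) (i, true) (⟨i + 1, hi⟩, false) :=
      PG_ne _ (a := (i, true)) (b := (⟨i + 1, hi⟩, false)) hne
    have h2 : PG (frame m F) (ng (i, true)) (ng (⟨i + 1, hi⟩, false)) =
        XG (frame m F) (⟨i + 1, hi⟩, true) (i, false) := by
      rw [PG_ne _ (a := ng (i, true)) (b := ng (⟨i + 1, hi⟩, false)) hne,
        XG_swap _ (a := ng (i, true)) (b := ng (⟨i + 1, hi⟩, false)) hne]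
      rfl
    rw [h1, h2]
  · have hnx : nx i = (i, true) := by unfold nx; rw [dif_neg hi]
    refine key (phiL (frame m F) i) (phiL_injective _ i) ?_ fun g hg => phiL_mono _ i hg
    rw [phiL_range, rg_sr, rg_neg_sr, hnx, PG_self, PG_self]
    rfl

/-- The diagonal isometries. -/
def dg (t : Fin m → Fˣ) : (Fin m ⊕ Fin m → F) ≃ₗ[F] (Fin m ⊕ Fin m → F) where
  toFun v := Sum.elim (fun i => ((t i)⁻¹ : Fˣ) * v (.inl i)) (fun i => (t i : F) * v (.inr i))
  map_add' u v := by
    funext i; rcases i with i | i <;> simp [mul_add]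
  map_smul' c v := by
    funext i; rcases i with i | i <;> simp <;> ring
  invFun v := Sum.elim (fun i => (t i : F) * v (.inl i)) (fun i => ((t i)⁻¹ : Fˣ) * v (.inr i))
  left_inv v := by
    funext i; rcases i with i | i <;> simp
  right_inv v := by
    funext i; rcases i with i | i <;> simp

theorem dg_mem (t : Fin m → Fˣ) : dg t ∈ isos (form m F) := by
  intro u v
  show Cfsg.sympForm m F (dg t u) (dg t v) = Cfsg.sympForm m F u v
  rw [Cfsg.Agent.ClassicalGeometry.SympBasic.sympForm_eq_sum, Cfsg.Agent.ClassicalGeometry.SympBasic.sympForm_eq_sum]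
  refine Finset.sum_congr rfl fun i _ => ?_
  show ((t i : F) * u (.inr i)) * (((t i)⁻¹ : Fˣ) * v (.inl i)) - (((t i)⁻¹ : Fˣ) * u (.inl i)) * ((t i : F) * v (.inr i)) = _
  have h1 : (t i : F) * ((t i)⁻¹ : Fˣ) = 1 := Units.mul_inv _
  linear_combination (u (.inr i) * v (.inl i) - u (.inl i) * v (.inr i)) * h1

theorem dg_mono (t : Fin m → Fˣ) : Mono (frame m F) (dg t) id := by
  rintro ⟨i, s⟩
  cases s
  · refine ⟨((t i)⁻¹ : Fˣ), Units.ne_zero _, ?_⟩
    show dg t (f m F i) = _ • f m F i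
    funext j
    rcases j with j | j
    · show ((t j)⁻¹ : Fˣ) * f m F i (.inl j) = ((t i)⁻¹ : Fˣ) * f m F i (.inl j)
      by_cases h : j = i
      · subst h; rfl
      · simp [f, Pi.single_apply, h]
    · show (t j : F) * f m F i (.inr j) = ((t i)⁻¹ : Fˣ) * f m F i (.inr j)
      simp [f, Pi.single_apply]
  · refine ⟨(t i : F), Units.ne_zero _, ?_⟩
    show dg t (e m F i) = _ • e m F i
    funext j
    rcases j with j | j
    · show ((t j)⁻¹ : Fˣ) * e m F i (.inl j) = (t i : F) * e m F i (.inl j)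
      simp [e, Pi.single_apply]
    · show (t j : F) * e m F i (.inr j) = (t i : F) * e m F i (.inr j)
      by_cases h : j = i
      · subst h; rfl
      · simp [e, Pi.single_apply, h]

theorem finite_isos [Finite F] : Finite (isos (form m F)) := by
  have : Finite ((Fin m ⊕ Fin m → F) ≃ₗ[F] (Fin m ⊕ Fin m → F)) :=
    Finite.of_injective (fun g : (Fin m ⊕ Fin m → F) ≃ₗ[F] (Fin m ⊕ Fin m → F) => (g : _ → _)) DFunLike.coe_injective
  infer_instance

theorem card_T_ge [Finite F] : Nat.card Fˣ ^ m ≤ Nat.card (Cfsg.Agent.Nodes.WittModel.T (model m F)) := by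
  have := finite_isos (m := m) (F := F)
  have h1 : Nat.card Fˣ ^ m = Nat.card (Fin m → Fˣ) := by
    rw [Nat.card_fun]; simp
  rw [h1]
  refine Nat.card_le_card_of_injective (fun t => (⟨⟨dg t, dg_mem t⟩, mem_T.2 (dg_mono t)⟩ :
    Cfsg.Agent.Nodes.WittModel.T (model m F))) ?_
  intro s t hst
  have h2 : dg s = dg t := congrArg (fun x => x.1.1) hst
  funext i
  have h3 := congrArg (fun g : (Fin m ⊕ Fin m → F) ≃ₗ[F] (Fin m ⊕ Fin m → F) => g (e m F i) (.inr i)) h2
  have h4 : (s i : F) * e m F i (.inr i) = (t i : F) * e m F i (.inr i) := h3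
  simp [e] at h4
  exact Units.ext h4

variable [Finite F]

/-- The datum. -/
theorem cdatum {W : Type*} [Group W] (cs : CoxeterSystem (CoxeterMatrix.B m) W) (hm : 0 < m)
    {p r : ℕ} [Fact p.Prime] [CharP F p] (hr : r.Prime) (hne : r ≠ p) :
    CDatum cs (isCartan m) p r (Cfsg.Agent.Nodes.WittModel.T (model m F))
      (Cfsg.Agent.Nodes.WittModel.nw (model m F) (Cfsg.Agent.KFacts.Mult.SpTwo.amb m F) (adm 1))
      (Cfsg.Agent.Nodes.WittModel.X (model m F)) where
  toRGD := Cfsg.Agent.KFacts.Mult.NotP.rgdM (model m F) (Cfsg.Agent.KFacts.Mult.SpTwo.amb m F) (p0 := adm 1)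
    (show (1 : F) ≠ 0 from one_ne_zero) cs
  gen := Cfsg.Agent.Nodes.WittModel.G1_eq_top (model m F) hm cs
  prime := Fact.out
  prime' := hr
  ne := hne
  card_le := by
    have h1 : ∀ i : Fin m, Nat.card ↥(Cfsg.Agent.Nodes.WittModel.T (model m F) ⊓
        Lv (Cfsg.Agent.Nodes.WittModel.X (model m F)) i) ≤ Nat.card Fˣ := by
      intro i
      obtain ⟨φ, -, h2, h3⟩ := exists_phi (F := F) i
      exact card_inf_le φ _ _ h2 h3
    refine (Finset.prod_le_prod' fun i _ => h1 i).trans ?_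
    rw [Finset.prod_const, Finset.card_univ, Fintype.card_fin]
    exact card_T_ge
  rk i := by
    obtain ⟨φ, h1, h2, -⟩ := exists_phi (F := F) i
    rw [← h2]
    exact (Cfsg.Agent.H60.CrossA.noCE_SL (F := F) Fact.out hr hne).congr (MonoidHom.ofInjective h1)

/-- The isometry group is the symplectic group. -/
noncomputable def isoSp (m : ℕ) (F : Type u) [Field F] : isos (form m F) ≃* Matrix.symplecticGroup (Fin m) F :=
  MulEquiv.ofBijective toSp ⟨toSp_injective, toSp_surjective⟩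

/-- **`Sp_{2m}(q)` has no perfect central extension of prime order `r`, `r` not the characteristic.** -/
theorem noPCov_cross (hm : 0 < m) {p : ℕ} [CharP F p] {r : ℕ} (hr : r.Prime) (hne : r ≠ p) :
    NoPCov r (Matrix.symplecticGroup (Fin m) F) := by
  haveI : Fact p.Prime := ⟨(CharP.char_is_prime_or_zero F p).resolve_right (CharP.char_ne_zero_of_finite F p)⟩
  haveI : Finite (CoxeterMatrix.B m).Group := finite_W (CoxeterMatrix.B m).toCoxeterSystem
  exact (cdatum (F := F) (CoxeterMatrix.B m).toCoxeterSystem hm hr hne).noPCov.congr (isoSp m F)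

end

end Cfsg.Agent.H62.SpCross
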