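import Mathlib
import Cfsg.Agent.ClassicalGeometry.SympSiegel
set_option linter.all false

/-!
# The stabiliser of a vector in the symplectic group

`emb : Sp_{2n} →* Sp_{2n+2}` , the parametrisation `siegel e (ext x) c * emb A` of the stabiliser of `e`.
-/

set_option autoImplicit false
open Cfsg
open scoped Matrix
open Cfsg.Agent.ClassicalGeometry.SympBasic Cfsg.Agent.ClassicalGeometry.SympSiegel

namespace Cfsg.Agent.H62.SpEmb

variable {F : Type*} [Field F] {n : ℕ}

local notation "V" => (Fin (n + 1) ⊕ Fin (n + 1) → F)
local notation "V₀" => (Fin n ⊕ Fin n → F)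
local notation "G" => Matrix.symplecticGroup (Fin (n + 1)) F
local notation "G₀" => Matrix.symplecticGroup (Fin n) F
local notation "f" => sympForm (n + 1) F
local notation "f₀" => sympForm n F

/-- restriction of coordinates -/
def res (v : V) : V₀ := Sum.elim (fun i => v (.inl i.succ)) (fun i => v (.inr i.succ))

/-- extension by zero -/
def ext (x : V₀) : V := Sum.elim (Fin.cons 0 fun i => x (.inl i)) (Fin.cons 0 fun i => x (.inr i))

/-- the first hyperbolic pair -/
def e (F : Type*) [Field F] (n : ℕ) : Fin (n + 1) ⊕ Fin (n + 1) → F := Pi.single (Sum.inr 0) 1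

/-- the second vector of the first hyperbolic pair -/
def v₀ (F : Type*) [Field F] (n : ℕ) : Fin (n + 1) ⊕ Fin (n + 1) → F := Pi.single (Sum.inl 0) 1

theorem res_add (u v : V) : res (u + v) = res u + res v := by
  funext i; rcases i with i | i <;> rfl

theorem res_smul (c : F) (u : V) : res (c • u) = c • res u := by
  funext i; rcases i with i | i <;> rfl

theorem ext_add (x y : V₀) : ext (x + y) = ext x + ext y := by
  funext i
  rcases i with i | i <;> refine Fin.cases ?_ (fun j => ?_) i <;> simp [ext]

theorem ext_smul (c : F) (x : V₀) : ext (c • x) = c • ext x := by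
  funext i
  rcases i with i | i <;> refine Fin.cases ?_ (fun j => ?_) i <;> simp [ext]

theorem ext_zero : ext (0 : V₀) = 0 := by
  have := ext_smul (F := F) (n := n) 0 0
  simpa using this

theorem ext_neg (x : V₀) : ext (-x) = -ext x := by
  have := ext_smul (F := F) (n := n) (-1) x
  simpa using this

theorem ext_sub (x y : V₀) : ext (x - y) = ext x - ext y := by
  rw [sub_eq_add_neg, ext_add, ext_neg, ← sub_eq_add_neg]

@[simp] theorem res_ext (x : V₀) : res (ext x) = x := by
  funext i
  rcases i with i | i <;> simp [ext, res]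

theorem ext_injective : Function.Injective (ext : V₀ → V) := fun x y h => by
  rw [← res_ext x, ← res_ext y, h]

theorem form_ext_left (x : V₀) (v : V) : f (ext x) v = f₀ x (res v) := by
  rw [sympForm_eq_sum, sympForm_eq_sum, Fin.sum_univ_succ]
  simp [ext, res]

theorem form_ext_right (v : V) (x : V₀) : f v (ext x) = f₀ (res v) x := by
  rw [sympForm_swap, form_ext_left, ← sympForm_swap]

theorem form_ext (x y : V₀) : f (ext x) (ext y) = f₀ x y := by
  rw [form_ext_left, res_ext]

theorem form_e (v : V) : f (e F n) v = v (.inl 0) := sympForm_single_inr_left 0 v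

theorem form_e_v₀ : f (e F n) (v₀ F n) = 1 := by
  rw [form_e]; simp [v₀]

theorem e_ne : (e F n) ≠ 0 := by
  intro h
  have := congrFun h (Sum.inr 0)
  simp [e] at this

theorem res_e : res (e F n) = 0 := by
  funext i
  rcases i with i | i <;> simp [res, e, Pi.single_apply]

theorem res_v₀ : res (v₀ F n) = 0 := by
  funext i
  rcases i with i | i <;> simp [res, v₀, Pi.single_apply]

theorem form_e_ext (x : V₀) : f (e F n) (ext x) = 0 := by
  rw [form_ext_right, res_e, sympForm_zero_left]

theorem form_v₀_ext (x : V₀) : f (v₀ F n) (ext x) = 0 := by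
  rw [form_ext_right, res_v₀, sympForm_zero_left]

theorem form_ext_v₀ (x : V₀) : f (ext x) (v₀ F n) = 0 := by
  rw [form_ext_left, res_v₀, sympForm_zero_right]

/-- the decomposition of a vector -/
theorem decomp (v : V) : v = ext (res v) + v (.inr 0) • e F n + v (.inl 0) • v₀ F n := by
  funext i
  rcases i with i | i <;> refine Fin.cases ?_ (fun j => ?_) i <;>
    simp [ext, res, e, v₀, Pi.single_apply, Fin.succ_ne_zero]

/-- the extension of a matrix as a linear map -/
def embLin (A : G₀) : V →ₗ[F] V where
  toFun v := v + ext (A • res v - res v)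
  map_add' u v := by
    have h : A • (res u + res v) - (res u + res v) = (A • res u - res u) + (A • res v - res v) := by
      rw [smul_add']; abel
    rw [res_add, h, ext_add]
    abel
  map_smul' c v := by
    rw [res_smul, smul_smul', ← smul_sub, ext_smul, RingHom.id_apply, smul_add]

theorem embLin_apply (A : G₀) (v : V) : embLin A v = v + ext (A • res v - res v) := rfl

theorem form_embLin (A : G₀) (u v : V) : f (embLin A u) (embLin A v) = f u v := by
  rw [embLin_apply, embLin_apply, sympForm_add_left, sympForm_add_right, sympForm_add_right, form_ext_left,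
    form_ext_right, form_ext]
  have h := form_smul A (res u) (res v)
  rw [sympForm_sub_right, sympForm_sub_left, sympForm_sub_left, sympForm_sub_right, sympForm_sub_right]
  linear_combination h

/-- The embedding of `Sp_{2n}` as the stabiliser of a hyperbolic pair. -/
def emb : G₀ →* G where
  toFun A := ofIso (embLin A) (form_embLin A)
  map_one' := by
    apply Cfsg.Agent.ClassicalGeometry.SympSiegel.ext_smul
    intro v
    rw [ofIso_smul, embLin_apply, one_smul, one_smul, sub_self, ext_zero, add_zero]
  map_mul' A B := by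
    apply Cfsg.Agent.ClassicalGeometry.SympSiegel.ext_smul
    intro v
    rw [ofIso_smul, mul_smul, ofIso_smul, ofIso_smul, embLin_apply, embLin_apply, embLin_apply, res_add, res_ext,
      add_sub_cancel, mul_smul, add_assoc, ← ext_add]
    congr 2
    abel

theorem emb_smul (A : G₀) (v : V) : emb A • v = v + ext (A • res v - res v) := ofIso_smul (embLin A) (form_embLin A) v

theorem emb_smul_ext (A : G₀) (x : V₀) : emb A • ext x = ext (A • x) := by
  rw [emb_smul, res_ext, ← ext_add, add_sub_cancel]

theorem emb_smul_e (A : G₀) : emb A • e F n = e F n := by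
  rw [emb_smul, res_e, smul_zero', sub_zero, ext_zero, add_zero]

theorem emb_smul_v₀ (A : G₀) : emb A • v₀ F n = v₀ F n := by
  rw [emb_smul, res_v₀, smul_zero', sub_zero, ext_zero, add_zero]

theorem emb_injective : Function.Injective (emb : G₀ →* G) := by
  intro A B h
  apply Cfsg.Agent.ClassicalGeometry.SympSiegel.ext_smul
  intro x
  apply ext_injective
  rw [← emb_smul_ext, ← emb_smul_ext, h]

/-- An element fixing `e` and `v₀` is in the image of `emb`. -/
theorem exists_emb {g : G} (h1 : g • e F n = e F n) (h2 : g • v₀ F n = v₀ F n) : ∃ A : G₀, g = emb A := by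
  -- `g` preserves the complement
  have hg : ∀ x : V₀, ext (res (g • ext x)) = g • ext x := by
    intro x
    have h3 : (g • ext x) (.inl 0) = 0 := by
      have h := form_smul g (e F n) (ext x)
      rwa [h1, form_e_ext, form_e] at h
    have h4 : (g • ext x) (.inr 0) = 0 := by
      have h := form_smul g (ext x) (v₀ F n)
      rw [h2, form_ext_v₀] at h
      rw [← h]
      exact (sympForm_single_inl_right 0 (g • ext x)).symm
    have h5 := decomp (g • ext x)
    rw [h3, h4, zero_smul, zero_smul, add_zero, add_zero] at h5
    exact h5.symm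
  let T : V₀ →ₗ[F] V₀ :=
    { toFun := fun x => res (g • ext x)
      map_add' := fun x y => by rw [ext_add, smul_add', res_add]
      map_smul' := fun c x => by rw [ext_smul, smul_smul', res_smul]; rfl }
  have hT : ∀ x y, f₀ (T x) (T y) = f₀ x y := by
    intro x y
    show f₀ (res (g • ext x)) (res (g • ext y)) = _
    rw [← form_ext, hg, hg, form_smul, form_ext]
  refine ⟨ofIso T hT, ?_⟩
  apply Cfsg.Agent.ClassicalGeometry.SympSiegel.ext_smul
  intro v
  have hv := decomp v
  have h6 : emb (ofIso T hT) • ext (res v) = g • ext (res v) := by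
    rw [emb_smul_ext, ofIso_smul]
    exact hg _
  rw [hv, smul_add', smul_add', smul_smul', smul_smul', h1, h2, smul_add', smul_add', smul_smul', smul_smul',
    emb_smul_e, emb_smul_v₀, h6]

/-- the Siegel element -/
noncomputable def sg (x : V₀) (c : F) : G := siegel (e F n) (ext x) c

theorem sg_mul (x y : V₀) (c d : F) : sg x c * sg y d = sg (x + y) (c + d + f₀ x y) := by
  unfold sg
  rw [siegel_mul (form_e_ext x) (form_e_ext y), form_ext, ext_add]

theorem sg_zero : sg (0 : V₀) (0 : F) = 1 := by
  unfold sg
  rw [ext_zero, siegel_zero_zero]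

theorem sg_inv (x : V₀) (c : F) : (sg x c)⁻¹ = sg (-x) (-c) := by
  unfold sg
  rw [siegel_inv (form_e_ext x), ext_neg]

theorem sg_smul_e (x : V₀) (c : F) : sg x c • e F n = e F n := smul_siegel_self (form_e_ext x) c

theorem sg_smul_v₀ (x : V₀) (c : F) : sg x c • v₀ F n = v₀ F n + ext x + c • e F n := by
  unfold sg
  rw [siegel_smul (form_e_ext x), form_ext_v₀, zero_smul, add_zero, form_e_v₀, one_smul, add_assoc]

theorem conj_sg (A : G₀) (x : V₀) (c : F) : emb A * sg x c * (emb A)⁻¹ = sg (A • x) c := by
  unfold sg
  rw [conj_siegel _ (form_e_ext x), emb_smul_e, emb_smul_ext]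

/-- Every element of the stabiliser of `e` is of the form `sg x c * emb A`. -/
theorem exists_stab {g : G} (hg : g • e F n = e F n) : ∃ (x : V₀) (c : F) (A : G₀), g = sg x c * emb A := by
  have h1 : (g • v₀ F n) (.inl 0) = 1 := by
    have h := form_smul g (e F n) (v₀ F n)
    rwa [hg, form_e_v₀, form_e] at h
  have h2 := decomp (g • v₀ F n)
  rw [h1, one_smul] at h2
  set x := res (g • v₀ F n)
  set c := (g • v₀ F n) (.inr 0)
  obtain ⟨A, hA⟩ := exists_emb (g := (sg x c)⁻¹ * g) (by
      rw [mul_smul, hg, inv_smul_eq_iff, sg_smul_e]) (by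
      rw [mul_smul, inv_smul_eq_iff, sg_smul_v₀, h2]; abel)
  exact ⟨x, c, A, by rw [← hA, mul_inv_cancel_left]⟩

/-- uniqueness -/
theorem sg_emb_eq_one {x : V₀} {c : F} {A : G₀} (h : sg x c * emb A = 1) : x = 0 ∧ c = 0 ∧ A = 1 := by
  have h1 : (sg x c * emb A) • v₀ F n = v₀ F n := by rw [h, one_smul]
  rw [mul_smul, emb_smul_v₀, sg_smul_v₀] at h1
  have h2 : x = 0 := by
    have := congrArg res h1
    rw [res_add, res_add, res_smul, res_ext, res_v₀, res_e, smul_zero, add_zero, zero_add] at this
    exact this
  have h3 : c = 0 := by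
    have := congrFun h1 (Sum.inr 0)
    simpa [h2, ext_zero, v₀, e] using this
  subst h2 h3
  rw [sg_zero, one_mul] at h
  exact ⟨rfl, rfl, emb_injective (by rw [h, map_one])⟩

end Cfsg.Agent.H62.SpEmb
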