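import Cfsg.Agent.H51.Mult
import Cfsg.Agent.SporRec.TwoSp6.Hom
import Cfsg.Agent.KFacts.OddLift.SpSix
set_option linter.all false

/-!
# The Schur multiplier of `Sp₆(2)`

* `noCov_odd` : no perfect central extension with kernel of odd prime order (lifts of the transvections to involutions
  satisfy the Coxeter relations of type `E₇`, so the extension has order at most `2903040`).
* `exists_cover` : the double cover.
* `hasCyclic_S` : `HasCyclicSchurMultiplier S 2`.
-/

set_option autoImplicit false
set_option linter.style.haveILetI false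

namespace Cfsg.Agent.H62.SpSix

open Subgroup Cfsg.Agent.H51.Mult Cfsg.Agent.SporRec.TwoSp6.Cox Cfsg.Agent.SporRec.TwoSp6.Sp
  Cfsg.Agent.SporRec.TwoSp6.Lift Cfsg.Agent.SporRec.TwoSp6.Order
open scoped commutatorElement

theorem commutator_S : commutator S = ⊤ :=
  Cfsg.Agent.LieClassical.SympPerfect.commutator_eq_top (Or.inl le_rfl)

section odd

variable {L : Type*} [Group L] [Finite L] {π : L →* S}

/-- an involution lifts to an involution if the kernel has odd order -/
theorem exists_invol (h : PCE π) {p : ℕ} (hodd : Odd p) (hc : Nat.card π.ker = p) {t : S} (ht : t * t = 1) :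
    ∃ a : L, π a = t ∧ a * a = 1 := by
  obtain ⟨x, rfl⟩ := h.surj t
  have hx : x * x ∈ π.ker := by rw [MonoidHom.mem_ker, map_mul]; exact ht
  obtain ⟨k, hk⟩ := hodd
  set c := x * x with hcdef
  have hcc : ∀ g, c * g = g * c := h.comm hx
  have hcp : c ^ p = 1 := by
    have h1 : (⟨c, hx⟩ : π.ker) ^ p = 1 := by rw [← hc]; exact pow_card_eq_one'
    exact congrArg Subtype.val h1
  refine ⟨x * c ^ k, ?_, ?_⟩
  · rw [map_mul, map_pow, MonoidHom.mem_ker.1 hx, one_pow, mul_one]
  · have h2 : Commute x (c ^ k) := ((show Commute c x from hcc x).pow_left k).symm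
    calc x * c ^ k * (x * c ^ k) = x * (c ^ k * x) * c ^ k := by group
      _ = x * (x * c ^ k) * c ^ k := by rw [h2.eq]
      _ = (x * x) * (c ^ k * c ^ k) := by group
      _ = c ^ p := by
        rw [← hcdef, ← pow_add, hk, ← pow_succ']
        congr 1; omega
      _ = 1 := hcp

/-- two involutions of `L` with the same image are equal -/
theorem invol_unique (h : PCE π) {p : ℕ} (hodd : Odd p) (hc : Nat.card π.ker = p) {a b : L} (ha : a * a = 1)
    (hb : b * b = 1) (hab : π a = π b) : a = b := by
  have hz : a * b⁻¹ ∈ π.ker := by rw [MonoidHom.mem_ker, map_mul, map_inv, hab, mul_inv_cancel]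
  set c := a * b⁻¹ with hcdef
  have hac : a = c * b := by rw [hcdef]; group
  have hcc : c * b = b * c := h.comm hz b
  have hc2 : c * c = 1 := by
    have h1 : c * b * (c * b) = 1 := by rw [← hac]; exact ha
    calc c * c = c * (c * (b * b)) := by rw [hb, mul_one]
      _ = c * (c * b) * b := by group
      _ = c * (b * c) * b := by rw [hcc]
      _ = c * b * (c * b) := by group
      _ = 1 := h1
  have hcp : c ^ p = 1 := by
    have h1 : (⟨c, hz⟩ : π.ker) ^ p = 1 := by rw [← hc]; exact pow_card_eq_one'
    exact congrArg Subtype.val h1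
  have hc1 : c = 1 := by
    obtain ⟨k, hk⟩ := hodd
    rw [hk, pow_succ, pow_mul, pow_two, hc2, one_pow, one_mul] at hcp
    exact hcp
  rw [hac, hc1, one_mul]

end odd

/-- **There is no perfect central extension of `Sp₆(2)` with kernel of odd prime order.** -/
theorem noCov_odd {p : ℕ} (hp : p.Prime) (hp2 : p ≠ 2) : NoCov p S := by
  intro L _ _ π h hc
  have hodd : Odd p := hp.odd_of_ne_two hp2
  choose a ha haa using fun i : Fin 7 => exists_invol h hodd hc (tr_sq (v i))
  have hinv : ∀ i, (a i)⁻¹ = a i := fun i => inv_eq_of_mul_eq_one_right (haa i)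
  have hcomm : ∀ i j, m7 i j = 2 → a i * a j = a j * a i := by
    intro i j hij
    have h1 : a i * a j * (a i)⁻¹ = a j := by
      refine invol_unique h hodd hc ?_ (haa j) ?_
      · calc a i * a j * (a i)⁻¹ * (a i * a j * (a i)⁻¹) = a i * (a j * a j) * (a i)⁻¹ := by group
          _ = 1 := by rw [haa, mul_one, mul_inv_cancel]
      · rw [map_mul, map_mul, map_inv, ha, ha]
        have h2 : tr (v i) * tr (v j) = tr (v j) * tr (v i) :=
          tr_comm (by rw [om_v', if_neg (by omega)])
        rw [h2, mul_inv_cancel_right]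
    calc a i * a j = (a i * a j * (a i)⁻¹) * a i := by group
      _ = a j * a i := by rw [h1]
  have hbraid : ∀ i j, m7 i j = 3 → a i * a j * a i = a j * a i * a j := by
    intro i j hij
    refine invol_unique h hodd hc ?_ ?_ ?_
    · calc a i * a j * a i * (a i * a j * a i) = a i * a j * (a i * a i) * a j * a i := by group
        _ = a i * (a j * a j) * a i := by rw [haa, mul_one]; group
        _ = 1 := by rw [haa, mul_one, haa]
    · calc a j * a i * a j * (a j * a i * a j) = a j * a i * (a j * a j) * a i * a j := by group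
        _ = a j * (a i * a i) * a j := by rw [haa, mul_one]; group
        _ = 1 := by rw [haa, mul_one, haa]
    · rw [map_mul, map_mul, map_mul, map_mul, ha, ha]
      exact tr_braid (by rw [om_v', if_pos hij])
  have hlift : M.IsLiftable a := liftable_of a haa hcomm hbraid
  -- the elements generate
  set K : Subgroup L := closure (Set.range a) with hK
  have hKmap : K.map π = ⊤ := by
    rw [hK, MonoidHom.map_closure, ← Set.range_comp]
    have : (π ∘ a) = fun i => tr (v i) := funext ha
    rw [this, closure_v]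
  have hKtop : K = ⊤ := by
    rw [eq_top_iff, ← h.perf, commutator_eq_closure, Subgroup.closure_le]
    rintro _ ⟨s, t, rfl⟩
    have key : ∀ s : L, ∃ s' ∈ K, ∃ z, π z = 1 ∧ s = s' * z := by
      intro s
      have h1 : π s ∈ K.map π := by rw [hKmap]; trivial
      obtain ⟨k, hk, hks⟩ := h1
      exact ⟨k, hk, k⁻¹ * s, by rw [map_mul, map_inv, hks, inv_mul_cancel], by group⟩
    obtain ⟨s', hs', z, hz, rfl⟩ := key s
    obtain ⟨t', ht', w, hw, rfl⟩ := key t
    have hz' := h.comm hz
    have hw' := h.comm hw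
    have h1 : ⁅s' * z, t' * w⁆ = ⁅s', t'⁆ := by
      rw [commutatorElement_def, commutatorElement_def]
      calc s' * z * (t' * w) * (s' * z)⁻¹ * (t' * w)⁻¹
          = s' * (z * (t' * w)) * z⁻¹ * s'⁻¹ * (w⁻¹ * t'⁻¹) := by group
        _ = s' * t' * (w * s'⁻¹) * w⁻¹ * t'⁻¹ := by rw [hz']; group
        _ = s' * t' * s'⁻¹ * t'⁻¹ := by rw [hw']; group
    rw [h1, commutatorElement_def]
    exact mul_mem (mul_mem (mul_mem hs' ht') (inv_mem hs')) (inv_mem ht')
  -- the order
  set f : M.Group →* L := cs.lift ⟨a, hlift⟩ with hf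
  have hfs : ∀ i, f (cs.simple i) = a i := fun i => cs.lift_apply_simple hlift i
  have hsurj : Function.Surjective f := by
    rw [← MonoidHom.range_eq_top, eq_top_iff, ← hKtop, hK, Subgroup.closure_le]
    rintro _ ⟨i, rfl⟩
    exact ⟨cs.simple i, hfs i⟩
  have hfin : Finite M.Group := Nat.finite_of_card_ne_zero (by rw [card_W]; norm_num)
  have h1 : Nat.card L ≤ 2903040 := by
    rw [← card_W]
    exact Nat.card_le_card_of_surjective f hsurj
  have h2 : Nat.card L = Nat.card (L ⧸ π.ker) * Nat.card π.ker := Subgroup.card_eq_card_quotient_mul_card_subgroup _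
  rw [Nat.card_congr (QuotientGroup.quotientKerEquivOfSurjective π h.surj).toEquiv, card_S, hc] at h2
  have h3 : 3 ≤ p := by
    have := hp.two_le
    omega
  omega

/-- the 2-part -/
theorem bd_two_S : Bd 2 1 S := by
  intro L _ _ π h hP
  have h1 := Cfsg.Agent.KFacts.OddLift.SpSix.card_ker_le h.perf h.surj h.cen hP
  have h2 : 0 < Nat.card π.ker := Nat.card_pos
  rcases (by omega : Nat.card π.ker = 1 ∨ Nat.card π.ker = 2) with h3 | h3
  · haveI : Subsingleton π.ker := (Nat.card_eq_one_iff_unique.1 h3).1
    exact ⟨inferInstance, by rw [h3]; exact one_dvd _⟩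
  · haveI : Fact (Nat.Prime 2) := ⟨Nat.prime_two⟩
    exact ⟨isCyclic_of_prime_card h3, by rw [h3, pow_one]⟩

/-- **The double cover of `Sp₆(2)`.** -/
theorem exists_cover : ∃ (L : Type) (_ : Group L) (_ : Finite L) (π : L →* S), PCE π ∧ Nat.card π.ker = 2 := by
  obtain ⟨φ, hφ, hz⟩ := Cfsg.Agent.SporRec.TwoSp6.Hom.exists_hom (D := S) (z' := 1) (a' := fun i => tr (v i))
    ⟨mul_one _, fun i => tr_sq _, fun i j hij => by
      rw [one_mul]
      exact tr_comm (by rw [om_v', if_neg (by omega)]), fun i j hij =>
      tr_braid (by rw [om_v', if_pos hij]), prod7_pow⟩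
  have hfin : Finite Cfsg.Agent.SporRec.TwoSp6.Model.M := inferInstance
  have hsurj : Function.Surjective φ := by
    rw [← MonoidHom.range_eq_top, eq_top_iff, ← closure_v, Subgroup.closure_le]
    rintro _ ⟨i, rfl⟩
    exact ⟨_, hφ i⟩
  have hcard : Nat.card φ.ker = 2 := by
    have h2 := Subgroup.card_eq_card_quotient_mul_card_subgroup φ.ker
    rw [Nat.card_congr (QuotientGroup.quotientKerEquivOfSurjective φ hsurj).toEquiv, card_S, card_M] at h2
    omega
  have hR := Cfsg.Agent.SporRec.TwoSp6.Model.rels
  have hker : φ.ker = zpowers Cfsg.Agent.SporRec.TwoSp6.Model.z := by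
    symm
    refine Subgroup.eq_of_le_of_card_ge ?_ ?_
    · rw [zpowers_le]; exact hz
    · rw [hcard, card_zpowers hR.z_ne hR.z_sq]
  have hstem : Cfsg.IsStemExtension φ := by
    refine ⟨hsurj, ?_, ?_⟩
    · rw [hker, zpowers_le, mem_center_iff]
      intro g
      exact (hR.z_comm g).symm
    · rw [hker, zpowers_le]
      have h01 := hR.comm 0 1 (by decide)
      have : Cfsg.Agent.SporRec.TwoSp6.Model.z =
          ⁅Cfsg.Agent.SporRec.TwoSp6.Model.gen 0, Cfsg.Agent.SporRec.TwoSp6.Model.gen 1⁆ := by
        rw [commutatorElement_def, h01]; group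
      rw [this, commutator_def]
      exact commutator_mem_commutator (mem_top _) (mem_top _)
  exact ⟨_, inferInstance, hfin, φ, PCE.of_stem hstem commutator_S, hcard⟩

/-- **The Schur multiplier of `Sp₆(2)`.** -/
theorem hasCyclic_S : Cfsg.HasCyclicSchurMultiplier S 2 := by
  refine hasCyclic commutator_S (by norm_num) (fun p hp _ => ?_) ?_
  · by_cases h : p = 2
    · subst h
      rw [Nat.prime_two.factorization_self]
      exact bd_two_S
    · exact ((noCov_odd hp h).bd hp).mono (Nat.zero_le _)
  · obtain ⟨L, _, _, π, h1, h2⟩ := exists_cover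
    exact ⟨L, inferInstance, inferInstance, π, h1, by rw [h2]⟩

end Cfsg.Agent.H62.SpSix
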