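import Cfsg.Agent.OddHalf.NI.ClsOrth
import Cfsg.Agent.Nodes.CardSup_m3
import Cfsg.Agent.Nodes.CardWitt
import Cfsg.Agent.Prune
set_option linter.all false
prune_inst 0x7f00000000000000000000000000000000000000000000000000000000000000000000000000000000000000000000000000000000000000000000000000000000000000000000000000000000000000003fffffffffffffffffffffffffffbeffbdffffffff
open scoped Cfsg.Agent.FastGrp

/-!
# The root groups of `PΩ(V)` for a Witt frame of odd characteristic (labels of type `C_n`)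

* `XP`, `TP`, `nP`, `zP` : the data in `POmega F Q`;
* `clsP` : the structure `Cls`, `genP` : generation;
* `card_short`, `card_long` : the orders of the root groups `± e_i ± e_j` and `± 2 e_i`;
* `pow_p` : the exponent.
-/

set_option autoImplicit false
set_option linter.unusedSectionVars false

namespace Cfsg.Agent.H62.OrthModel

open CoxeterSystem Cfsg.Agent.ChevalleyStructure.CoxeterGeom Cfsg.Agent.Tits.Roots Cfsg.Agent.Tits.Core
  Cfsg.Agent.Tits.RootComb Cfsg.Agent.Nodes.Comb Cfsg.Agent.Nodes.Reps Cfsg.Agent.Nodes.BNOf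
  Cfsg.Agent.Nodes.RGDLib Cfsg.Agent.Nodes.Chart
open QuadraticMap
open Cfsg.Agent.LieClassical Cfsg.Agent.LieClassical.OrthCore Cfsg.Agent.LieClassical.OrthTrans
open Cfsg.Agent.LieClassical.OrthSimple Cfsg.Agent.LieClassical.OrthFinite Cfsg.Agent.LieClassical.OrthForms
open Cfsg.Agent.TitsThree Cfsg.Agent.TitsThree.Siegel Cfsg.Agent.TitsThree.SiegelGen
  Cfsg.Agent.TitsThree.WittFrame Cfsg.Agent.TitsThree.WittWeyl Cfsg.Agent.TitsThree.WBridge
  Cfsg.Agent.TitsThree.KSideO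
open Cfsg.Agent.Nodes
open Cfsg.Agent.Nodes.WittRoot (Amb XG ZG PG PG_ne PG_self Mono XG_swap rg rg_eq)
open Cfsg.Agent.Nodes.WittRGD (Tor mem_Tor b_ne_zero eq_or_ng nn nn_mem mono_nn)
open Cfsg.Agent.Nodes.TypeC Cfsg.Agent.Nodes.TypeCForm Cfsg.Agent.Nodes.KindBC
open Cfsg.Agent.Nodes.RGDOrth
open Cfsg.Agent.OddHalf.NI

section Matrix

variable {ι : Type} [Fintype ι] [DecidableEq ι] {F : Type*} [Field F] {Q : QuadraticForm F (ι → F)}
  (hG : _root_.Cfsg.Agent.LieClassical.OrthTrans.Good Q) {m : ℕ} (W : WFrame (PO Q) m)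

/-- the root groups of `POmega F Q` -/
noncomputable def XP (x : Fin m → ℤ) : Subgroup (Cfsg.POmega F ⇑Q) := ((rg (toFrame W) x).subgroupOf (E Q)).map (toPOmega hG)

/-- the torus of `POmega F Q` -/
noncomputable def TP : Subgroup (Cfsg.POmega F ⇑Q) := ((Tor (toFrame W) (E Q)).subgroupOf (E Q)).map (toPOmega hG)

variable {W}

/-- the monomial elements -/
noncomputable def nP (hA : Amb (toFrame W) (E Q)) (p0 : (toFrame W).Adm) (i : Fin m) : Cfsg.POmega F ⇑Q :=
  toPOmega hG ⟨_root_.Cfsg.Agent.Nodes.WittRGD.nn (toFrame W) p0 i, nn_mem hA p0 i⟩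

/-- the involutions of the long roots of the orthogonal group -/
noncomputable def zP (hA : Amb (toFrame W) (E Q)) (x : Fin m → ℤ) : Cfsg.POmega F ⇑Q :=
  toPOmega hG ⟨ClsOrth.zv W x, ClsOrth.zv_mem hA x⟩

theorem clsP [Finite F] (hA : Amb (toFrame W) (E Q)) {p : ℕ} [Fact p.Prime] [CharP F p] (hp2 : Odd p)
    {p0 : (toFrame W).Adm} (hp0 : p0.c ≠ 0) {C : Type*} [Group C] [Fintype C]
    (cs : CoxeterSystem (CoxeterMatrix.B m) C) :
    Cls cs (isCartan m) p (TP hG W) (nP hG hA p0) (XP hG W) (RB m) (XP hG W) (zP hG hA) := by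
  have : Finite ((ι → F) ≃ₗ[F] (ι → F)) :=
    Finite.of_injective (fun g : (ι → F) ≃ₗ[F] (ι → F) => (g : (ι → F) → (ι → F))) DFunLike.coe_injective
  exact ClsMap.cls_map_of_ker_le_center (ClsOrth.clsE hA hp2 hp0 cs) (toPOmega hG)
    fun g hg => center_of_toPOmega hG hg

theorem genP (hA : Amb (toFrame W) (E Q)) {p0 : (toFrame W).Adm} (hp0 : p0.c ≠ 0) (hm : 0 < m)
    {C : Type*} [Group C] (cs : CoxeterSystem (CoxeterMatrix.B m) C) :
    G1 cs (isCartan m) (XP hG W) = ⊤ := by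
  have e3 : (G1 cs (isCartan m) (fun x => (rg (toFrame W) x).subgroupOf (E Q))).map (toPOmega hG) =
      G1 cs (isCartan m) (XP hG W) := by
    unfold G1 RGD.Sup XP
    rw [Subgroup.map_iSup]
  rw [← e3, ClsOrth.genE hA hp0 hm cs, Subgroup.map_top_of_surjective _ (toPOmega_surjective hG)]

theorem card_XP [Finite F] (hA : Amb (toFrame W) (E Q)) {p : ℕ} [Fact p.Prime] [CharP F p] (hp2 : Odd p)
    {p0 : (toFrame W).Adm} (hp0 : p0.c ≠ 0) {x : Fin m → ℤ} {a b : Fin m × Bool} (hab : Ok a b)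
    (e : ee x = wt a + wt b) : Nat.card (XP hG W x) = Nat.card (PG (toFrame W) a b) := by
  have : Finite ((ι → F) ≃ₗ[F] (ι → F)) :=
    Finite.of_injective (fun g : (ι → F) ≃ₗ[F] (ι → F) => (g : (ι → F) → (ι → F))) DFunLike.coe_injective
  let cs := (CoxeterMatrix.B m).toCoxeterSystem
  have : Finite (CoxeterMatrix.B m).Group := finite_W cs
  have := Fintype.ofFinite (CoxeterMatrix.B m).Group
  have hx : IsRoot cs (isCartan m) x := isRoot_iff.2 ⟨a, b, hab, e⟩
  have Rd := (ClsOrth.clsE hA hp2 hp0 cs).rgd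
  have h1 := CardSup.card_map_X Rd (toPOmega hG) (fun g hg => center_of_toPOmega hG hg) hx
  refine h1.trans ?_
  rw [Nat.card_congr (Subgroup.subgroupOfEquivOfLe (hA.rg_le x)).toEquiv, rg_eq (toFrame W) hab e]

/-- **the order of the root groups `± e_i ± e_j`** -/
theorem card_short [Finite F] (hA : Amb (toFrame W) (E Q)) {p : ℕ} [Fact p.Prime] [CharP F p] (hp2 : Odd p)
    {p0 : (toFrame W).Adm} (hp0 : p0.c ≠ 0) {x : Fin m → ℤ} {a b : Fin m × Bool} (hab : a.1 ≠ b.1)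
    (e : ee x = wt a + wt b) : Nat.card (XP hG W x) = Nat.card F := by
  rw [card_XP hG hA hp2 hp0 (Or.inl hab) e, PG_ne _ hab, CardWitt.card_XG _ hab]

theorem Z_inj {H : HForm F (ι → F)} (Fr : Frame H (Fin m)) (a : Fin m × Bool) : Function.Injective (Fr.Z a) := by
  intro q q' e
  have e1 := Z_apply_neg Fr a q
  rw [e, Z_apply_neg Fr a q'] at e1
  have e2 : Fr.η a • q'.w + (q'.c * Fr.η a) • Fr.b a = Fr.η a • q.w + (q.c * Fr.η a) • Fr.b a := by
    rw [add_assoc, add_assoc] at e1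
    exact add_left_cancel e1
  -- the pairing with `b (-a)`
  have e3 := congrArg (fun v => H.h (Fr.b (neg a)) v) e2
  simp only [H.add_right, H.smul_right, Fr.hb_neg_self, Fr.h0 _ _ (Fr.ok_mem q.ok), Fr.h0 _ _ (Fr.ok_mem q'.ok),
    mul_zero, zero_add] at e3
  have h0 := Fr.η_ne a
  have e4 : H.σ (q'.c * Fr.η a) = H.σ (q.c * Fr.η a) := mul_right_cancel₀ h0 e3
  have e5 : q'.c * Fr.η a = q.c * Fr.η a := H.σ.injective e4
  have e6 : q'.c = q.c := mul_right_cancel₀ h0 e5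
  rw [e5] at e2
  have e7 : q'.w = q.w := smul_right_injective _ h0 (add_right_cancel e2)
  exact (Frame.Adm.ext e7 e6).symm

theorem adm_ext {q q' : (toFrame W).Adm} (h : q.w = q'.w) : q = q' := by
  refine Frame.Adm.ext h ?_
  have h1 : q.c = -Q q.w := q.ok.2
  have h2 : q'.c = -Q q'.w := q'.ok.2
  rw [h1, h2, h]

/-- **the order of the root groups `± 2 e_i`** -/
theorem card_long [Finite F] (hA : Amb (toFrame W) (E Q)) {p : ℕ} [Fact p.Prime] [CharP F p] (hp2 : Odd p)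
    {p0 : (toFrame W).Adm} (hp0 : p0.c ≠ 0) {x : Fin m → ℤ} {a : Fin m × Bool}
    (e : ee x = wt a + wt a) : Nat.card (XP hG W x) = Nat.card W.V0 := by
  rw [card_XP hG hA hp2 hp0 (Or.inr rfl) e, PG_self]
  symm
  refine Nat.card_congr (Equiv.ofBijective (fun w : W.V0 =>
    (⟨(toFrame W).Z a ⟨w.1, -Q w.1, ⟨w.2, rfl⟩⟩, ⟨_, rfl⟩⟩ : ZG (toFrame W) a)) ⟨?_, ?_⟩)
  · intro w w' e1
    have e2 := Z_inj (toFrame W) a (congrArg Subtype.val e1)
    exact Subtype.ext (congrArg Frame.Adm.w e2)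
  · rintro ⟨_, q, rfl⟩
    refine ⟨⟨q.w, q.ok.1⟩, Subtype.ext ?_⟩
    exact congrArg ((toFrame W).Z a) (adm_ext rfl)

/-- **exponent `p`** -/
theorem pow_PG {p : ℕ} [Fact p.Prime] [CharP F p] {a b : Fin m × Bool} (hab : Ok a b) {u : (ι → F) ≃ₗ[F] (ι → F)}
    (hu : u ∈ PG (toFrame W) a b) : u ^ p = 1 := by
  rcases hab with hab | rfl
  · rw [PG_ne _ hab] at hu
    obtain ⟨t, rfl⟩ := hu
    have hXpow : ∀ m : ℕ, (toFrame W).X a b t ^ m = (toFrame W).X a b (m * t) := by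
      intro m
      induction m with
      | zero => rw [pow_zero, Nat.cast_zero, zero_mul, (toFrame W).X_zero]
      | succ m ih => rw [pow_succ, ih, ← (toFrame W).X_add]; congr 1; push_cast; ring
    rw [hXpow, CharP.cast_eq_zero, zero_mul, (toFrame W).X_zero]
  · rw [PG_self] at hu
    obtain ⟨q, rfl⟩ := hu
    have hZpow : ∀ m : ℕ, (toFrame W).Z a q ^ m = (toFrame W).Z a (q ^ m) := by
      intro m
      induction m with
      | zero => rw [pow_zero, pow_zero, (toFrame W).Z_one]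
      | succ m ih => rw [pow_succ, pow_succ, (toFrame W).Z_mul, ih]
    have h1 : ∀ m : ℕ, (q ^ m).w = m • q.w := by
      intro m
      induction m with
      | zero => simp
      | succ m ih => rw [pow_succ, Frame.Adm.mul_w, ih, succ_nsmul]
    rw [hZpow, show q ^ p = 1 from adm_ext (by
      rw [h1, ← Nat.cast_smul_eq_nsmul F, CharP.cast_eq_zero, zero_smul]; rfl), (toFrame W).Z_one]

theorem pow_XP {p : ℕ} [Fact p.Prime] [CharP F p] {x : Fin m → ℤ} {a b : Fin m × Bool} (hab : Ok a b)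
    (e : ee x = wt a + wt b) {u : Cfsg.POmega F ⇑Q} (hu : u ∈ XP hG W x) : u ^ p = 1 := by
  obtain ⟨g, hg, rfl⟩ := hu
  have h1 : (g : (ι → F) ≃ₗ[F] (ι → F)) ∈ PG (toFrame W) a b := by
    rw [← rg_eq (toFrame W) hab e]
    exact hg
  rw [← map_pow, show g ^ p = 1 from Subtype.ext (pow_PG hab h1), map_one]

end Matrix

section Forms

variable (F : Type*) [Field F] (m : ℕ)

theorem card_V0_odd : Nat.card (wodd m F).V0 = Nat.card F := by
  refine Nat.card_congr (Equiv.ofBijective (fun w : (wodd m F).V0 => w.1 (Sum.inl ())) ⟨?_, ?_⟩)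
  · rintro ⟨w, hw⟩ ⟨w', hw'⟩ e
    apply Subtype.ext
    funext j
    rcases j with j | j
    · exact e
    · have h1 : w (Sum.inr j) = 0 := hw j
      have h2 : w' (Sum.inr j) = 0 := hw' j
      exact h1.trans h2.symm
  · intro t
    exact ⟨⟨Pi.single (Sum.inl ()) t, fun j => by simp⟩, by simp⟩

theorem card_V0_minus (a b : F) (hab : ∀ z₁ z₂ : F, z₁ ^ 2 + a * z₁ * z₂ + b * z₂ ^ 2 = 0 → z₁ = 0 ∧ z₂ = 0) :
    Nat.card (wminus m F a b hab).V0 = Nat.card F ^ 2 := by
  rw [pow_two, ← Nat.card_prod]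
  refine Nat.card_congr (Equiv.ofBijective
    (fun w : (wminus m F a b hab).V0 => (w.1 (Sum.inr 0), w.1 (Sum.inr 1))) ⟨?_, ?_⟩)
  · rintro ⟨w, hw⟩ ⟨w', hw'⟩ e
    apply Subtype.ext
    have e1 : w (Sum.inr 0) = w' (Sum.inr 0) := congrArg Prod.fst e
    have e2 : w (Sum.inr 1) = w' (Sum.inr 1) := congrArg Prod.snd e
    funext j
    rcases j with j | j
    · have h1 : w (Sum.inl j) = 0 := hw j
      have h2 : w' (Sum.inl j) = 0 := hw' j
      exact h1.trans h2.symm
    · fin_cases j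
      · exact e1
      · exact e2
  · rintro ⟨s, t⟩
    exact ⟨⟨Sum.elim (fun _ => 0) ![s, t], fun j => rfl⟩, rfl⟩

end Forms

end Cfsg.Agent.H62.OrthModel
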