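import Mathlib
import Cfsg.Agent.Lib.Zsigmondy
import Cfsg.Agent.TitsThree.Siegel
import Cfsg.Agent.Prune
set_option linter.all false

-- part: H689/Num
section
set_option linter.all false
open scoped Cfsg.Agent.FastGrp

/-!
# Zsigmondy primes: the forms used
-/

set_option autoImplicit false

open Cfsg.Agent.Lib

namespace Cfsg.Agent.H689

/-- `r` is a primitive prime divisor of `q ^ k - 1`. -/
structure Ppd (q k r : ℕ) : Prop where
  prime : r.Prime
  iff : ∀ m, r ∣ q ^ m - 1 ↔ k ∣ m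
  dvd : k ∣ r - 1
  not_dvd : ¬ r ∣ q

theorem exists_ppd {q k : ℕ} (hq : 2 ≤ q) (hk : 3 ≤ k) (h6 : ¬ (q = 2 ∧ k = 6)) : ∃ r, Ppd q k r := by
  obtain ⟨r, h1, h2, h3, h4⟩ := Zsigmondy.exists_primitive hq (by omega) (by omega) h6
  exact ⟨r, h1, h2, h3, h4⟩

theorem Ppd.two_lt {q k r : ℕ} (h : Ppd q k r) (hk : 3 ≤ k) : 2 < r := by
  have h1 := h.prime.two_le
  have h2 := Nat.le_of_dvd (by omega) h.dvd
  omega

/-- for odd `k`, `r ≡ 1` mod `2 k` -/
theorem Ppd.odd_dvd {q k r : ℕ} (h : Ppd q k r) (hk : 3 ≤ k) (ho : Odd k) : 2 * k ∣ r - 1 := by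
  have h1 := h.two_lt hk
  have h2 : 2 ∣ r - 1 := by
    have := h.prime.eq_two_or_odd'
    rcases this with h3 | h3
    · omega
    · obtain ⟨j, hj⟩ := h3; exact ⟨j, by omega⟩
  exact Nat.Coprime.mul_dvd_of_dvd_of_dvd ((Nat.coprime_two_left).2 ho) h2 h.dvd

theorem Ppd.le_odd {q k r : ℕ} (h : Ppd q k r) (hk : 3 ≤ k) (ho : Odd k) : 2 * k + 1 ≤ r := by
  have h1 := h.two_lt hk
  have := Nat.le_of_dvd (by omega) (h.odd_dvd hk ho)
  omega

theorem Ppd.le {q k r : ℕ} (h : Ppd q k r) (hk : 3 ≤ k) : k + 1 ≤ r := by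
  have h1 := h.two_lt hk
  have := Nat.le_of_dvd (by omega) h.dvd
  omega

/-- the two primes for `k` and `2 k`, `k` odd: one of them is large -/
theorem exists_large {q k : ℕ} (hq : 2 ≤ q) (hk : 3 ≤ k) (ho : Odd k) (h : ¬ (q = 2 ∧ k = 3)) :
    ∃ r, (Ppd q k r ∨ Ppd q (2 * k) r) ∧ 4 * k + 1 ≤ r := by
  obtain ⟨r, hr⟩ := exists_ppd hq hk (by rintro ⟨h1, h2⟩; subst h2; revert ho; decide)
  obtain ⟨s, hs⟩ := exists_ppd (k := 2 * k) hq (by omega) (by rintro ⟨h1, h2⟩; exact h ⟨h1, by omega⟩)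
  have hne : r ≠ s := by
    rintro rfl
    have h1 := (hr.iff k).2 dvd_rfl
    rw [hs.iff] at h1
    have := Nat.le_of_dvd (by omega) h1
    omega
  obtain ⟨a, ha⟩ := hr.odd_dvd hk ho
  obtain ⟨b, hb⟩ := hs.dvd
  have h1 := hr.two_lt hk
  have h2 := hs.two_lt (by omega)
  by_cases ha2 : 2 ≤ a
  · refine ⟨r, Or.inl hr, ?_⟩
    have := Nat.mul_le_mul_left (2 * k) ha2
    omega
  · have ha1 : a = 1 := by
      rcases Nat.eq_zero_or_pos a with h0 | h0
      · subst h0; omega
      · omega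
    subst ha1
    refine ⟨s, Or.inr hs, ?_⟩
    have hb2 : 2 ≤ b := by
      by_contra hb2
      rcases Nat.eq_zero_or_pos b with h0 | h0
      · subst h0; omega
      · have hb1 : b = 1 := by omega
        subst hb1
        omega
    have := Nat.mul_le_mul_left (2 * k) hb2
    omega

theorem Ppd.not_dvd_sub_one {q k r : ℕ} (h : Ppd q k r) (hk : 2 ≤ k) : ¬ r ∣ q - 1 := by
  intro h1
  have := (h.iff 1).1 (by rwa [pow_one])
  have := Nat.le_of_dvd (by omega) this
  omega

theorem Ppd.dvd_add_one {q k r : ℕ} (h : Ppd q (2 * k) r) (hk : 1 ≤ k) : r ∣ q ^ k + 1 := by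
  have h1 := (h.iff (2 * k)).2 dvd_rfl
  have h2 : q ^ (2 * k) - 1 = (q ^ k + 1) * (q ^ k - 1) := by
    rw [mul_comm 2 k, pow_mul]
    have := Nat.sq_sub_sq (q ^ k) 1
    rw [one_pow] at this
    exact this
  rw [h2] at h1
  rcases (h.prime.dvd_mul).1 h1 with h3 | h3
  · exact h3
  · rw [h.iff] at h3
    have := Nat.le_of_dvd (by omega) h3
    omega

end Cfsg.Agent.H689
end

-- part: H62/PCGeo
section
set_option linter.all false
open scoped Cfsg.Agent.FastGrp

/-!
# Elements of primitive prime divisor order and invariant subspaces (helper62)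

`g` an element of prime order `l` of `GL(V)`, `l` a primitive prime divisor of `|F| ^ e - 1`.

* `irr` : `e = dim V` : `g` is irreducible;
* `odd_false` : `e = dim V - 1` : no totally isotropic invariant subspace;
* `plus_one` : `e = dim V - 2` : totally isotropic invariant subspaces have dimension one;
* `plus_false` : none if the number of singular vectors is that of the plus type.
-/

set_option autoImplicit false
set_option linter.unusedSectionVars false

namespace Cfsg.Agent.H62.PCGeo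

open Module Cfsg.Agent.H689 Cfsg.Agent.TitsThree.Siegel

variable {F : Type*} [Field F] {V : Type*} [AddCommGroup V] [Module F V]

/-- the fixed vectors -/
def Fx (g : V ≃ₗ[F] V) : Submodule F V where
  carrier := {v | g v = v}
  add_mem' := by
    intro a b ha hb
    rw [Set.mem_ofPred_eq] at ha hb ⊢
    rw [map_add, ha, hb]
  zero_mem' := map_zero g
  smul_mem' := by
    intro c v hv
    rw [Set.mem_ofPred_eq] at hv ⊢
    rw [map_smul, hv]

theorem mem_Fx {g : V ≃ₗ[F] V} {v : V} : v ∈ Fx g ↔ g v = v := Iff.rfl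

theorem Fx_ne_top {g : V ≃ₗ[F] V} (hg : g ≠ 1) : Fx g ≠ ⊤ := by
  intro h
  apply hg
  ext v
  exact mem_Fx.1 (h ▸ Submodule.mem_top)

/-- a map of order `p` has as many fixed points as the cardinality of the set modulo `p` -/
theorem card_fixed {X : Type*} [Finite X] {p : ℕ} [Fact p.Prime] (f : X → X) (hf : f^[p] = id) :
    Nat.card X ≡ Nat.card {x : X // f x = x} [MOD p] := by
  classical
  have := Fintype.ofFinite X
  let g : Function.End X := f
  have hg : ∀ n : ℕ, g ^ n = (f^[n] : X → X) := by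
    intro n
    induction n with
    | zero => rfl
    | succ n ih =>
      rw [pow_succ, ih, Function.iterate_succ]
      rfl
  have h1 := Equiv.Perm.card_fixedPoints_modEq (α := X) (f := g) (p := p) (n := 1) (by
    rw [pow_one, hg, hf]
    rfl)
  rw [Nat.card_eq_fintype_card, Nat.card_eq_fintype_card]
  exact h1

variable [Finite F] [Finite V] {g : V ≃ₗ[F] V} {l e : ℕ}

/-- **orbit counting on an invariant subset** -/
theorem card_modEq (hl : l.Prime) (hg : g ^ l = 1) {P : V → Prop} (hP : ∀ v, P v → P (g v)) :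
    Nat.card {v : V // P v} ≡ Nat.card {v : V // P v ∧ g v = v} [MOD l] := by
  have : Fact l.Prime := ⟨hl⟩
  have h1 := card_fixed (p := l) (fun w : {v : V // P v} => (⟨g w, hP w w.2⟩ : {v : V // P v})) (by
    funext w
    apply Subtype.ext
    have : ∀ k : ℕ, ((((fun w : {v : V // P v} => (⟨g w, hP w w.2⟩ : {v : V // P v}))^[k] w : {v : V // P v})) : V) =
        (g ^ k) (w : V) := by
      intro k
      induction k generalizing w with
      | zero => rfl
      | succ k ih =>
        rw [Function.iterate_succ_apply, ih, pow_succ]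
        rfl
    rw [this, hg]
    rfl)
  refine h1.trans ?_
  have h2 : Nat.card {x : {v : V // P v} // (⟨g x, hP x x.2⟩ : {v : V // P v}) = x} =
      Nat.card {v : V // P v ∧ g v = v} := Nat.card_congr ⟨fun x => ⟨x.1.1, x.1.2, congrArg Subtype.val x.2⟩, fun x => ⟨⟨x.1, x.2.1⟩, Subtype.ext x.2.2⟩,
    fun _ => rfl, fun _ => rfl⟩
  rw [h2]

theorem card_sub (W : Submodule F V) : Nat.card W = Nat.card F ^ finrank F W := by
  have := Fintype.ofFinite F
  have := Fintype.ofFinite W
  rw [Nat.card_eq_fintype_card, Nat.card_eq_fintype_card, Module.card_eq_pow_finrank (K := F) (V := W)]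

/-- **orbit counting** -/
theorem dvd_sub (hl : Ppd (Nat.card F) e l) (hg : g ^ l = 1) {W : Submodule F V} (hW : ∀ v ∈ W, g v ∈ W) :
    e ∣ finrank F W - finrank F (W ⊓ Fx g : Submodule F V) := by
  have h1 := card_modEq (g := g) hl.prime hg (P := fun v => v ∈ W) hW
  have h2 : Nat.card {v : V // v ∈ W} = Nat.card F ^ finrank F W := card_sub W
  have h3 : Nat.card {v : V // v ∈ W ∧ g v = v} = Nat.card F ^ finrank F (W ⊓ Fx g : Submodule F V) := by
    rw [← card_sub]
    rfl
  rw [h2, h3] at h1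
  have hle : finrank F (W ⊓ Fx g : Submodule F V) ≤ finrank F W := Submodule.finrank_mono inf_le_left
  have h4 : l ∣ Nat.card F ^ finrank F W - Nat.card F ^ finrank F (W ⊓ Fx g : Submodule F V) :=
    (Nat.modEq_iff_dvd' (Nat.pow_le_pow_right Nat.card_pos hle)).1 h1.symm
  have h5 : Nat.card F ^ finrank F W - Nat.card F ^ finrank F (W ⊓ Fx g : Submodule F V) =
      Nat.card F ^ finrank F (W ⊓ Fx g : Submodule F V) *
        (Nat.card F ^ (finrank F W - finrank F (W ⊓ Fx g : Submodule F V)) - 1) := by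
    rw [Nat.mul_sub, ← pow_add, mul_one, Nat.add_sub_cancel' hle]
  rw [h5] at h4
  refine (hl.iff _).1 (((Nat.Coprime.pow_right _ ?_)).dvd_of_dvd_mul_left h4)
  exact (Nat.Prime.coprime_iff_not_dvd hl.prime).2 hl.not_dvd

theorem dvd_sub_top (hl : Ppd (Nat.card F) e l) (hg : g ^ l = 1) :
    e ∣ finrank F V - finrank F (Fx g) := by
  have h1 := dvd_sub hl hg (W := ⊤) fun v _ => Submodule.mem_top
  rwa [top_inf_eq, finrank_top] at h1

theorem finrank_Fx_lt (hg1 : g ≠ 1) : finrank F (Fx g) < finrank F V :=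
  Submodule.finrank_lt (Fx_ne_top hg1)

/-- `e = dim V` : irreducible -/
theorem irr (hl : Ppd (Nat.card F) (finrank F V) l) (hg : g ^ l = 1) (hg1 : g ≠ 1) {W : Submodule F V}
    (hW : ∀ v ∈ W, g v ∈ W) : W = ⊥ ∨ W = ⊤ := by
  have h1 := dvd_sub_top hl hg
  have h2 := finrank_Fx_lt hg1
  have h3 : finrank F (Fx g) = 0 := by
    have := Nat.le_of_dvd (by omega) h1
    omega
  have h4 := dvd_sub hl hg hW
  have h5 : finrank F (W ⊓ Fx g : Submodule F V) = 0 := by
    have := Submodule.finrank_mono (inf_le_right : W ⊓ Fx g ≤ Fx g)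
    omega
  rw [h5, Nat.sub_zero] at h4
  rcases Nat.eq_zero_or_pos (finrank F W) with h6 | h6
  · exact Or.inl (Submodule.finrank_eq_zero.1 h6)
  · right
    have h7 := Nat.le_of_dvd h6 h4
    exact Submodule.eq_top_of_finrank_eq (le_antisymm (Submodule.finrank_le W) h7)

/-! ### forms -/

variable {H : HForm F V}

theorem h_sum (H : HForm F V) (v : V) (s : Finset ℕ) (f : ℕ → V) : H.h v (∑ k ∈ s, f k) = ∑ k ∈ s, H.h v (f k) := by
  classical
  induction s using Finset.induction_on with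
  | empty => simp [H.zero_right]
  | insert a s ha ih => rw [Finset.sum_insert ha, H.add_right, ih, Finset.sum_insert ha]

/-- the fixed space is nondegenerate -/
theorem exists_fix (hl : (l : F) ≠ 0) (hg : g ^ l = 1) (hi : H.IsIso g) {v : V} (hv : g v = v)
    {u : V} (hu : H.h v u ≠ 0) : ∃ u', g u' = u' ∧ H.h v u' ≠ 0 := by
  have hpow : ∀ k : ℕ, H.h v ((g ^ k) u) = H.h v u := by
    intro k
    induction k with
    | zero => rfl
    | succ k ih =>
      rw [pow_succ']
      change H.h v (g ((g ^ k) u)) = _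
      conv_lhs => rw [← hv]
      rw [hi, ih]
  refine ⟨∑ k ∈ Finset.range l, (g ^ k) u, ?_, ?_⟩
  · rw [map_sum]
    have h1 : ∀ k ∈ Finset.range l, g ((g ^ k) u) = (g ^ (k + 1)) u := by
      intro k _
      rw [pow_succ']
      rfl
    rw [Finset.sum_congr rfl h1]
    have h2 := Finset.sum_range_succ (fun k => (g ^ k) u) l
    have h3 := Finset.sum_range_succ' (fun k => (g ^ k) u) l
    rw [h2, hg] at h3
    exact (add_right_cancel h3).symm
  · rw [h_sum, Finset.sum_congr rfl (fun k _ => hpow k), Finset.sum_const, Finset.card_range, nsmul_eq_mul]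
    exact mul_ne_zero hl hu

theorem cast_ne (hl : Ppd (Nat.card F) e l) : (l : F) ≠ 0 := by
  intro h0
  have := Fintype.ofFinite F
  have h1 : (Fintype.card F : F) = 0 := by
    exact_mod_cast FiniteField.cast_card_eq_zero F
  have h2 : ((Nat.card F : ℕ) : F) = 0 := by rw [Nat.card_eq_fintype_card]; exact h1
  have hc : Nat.Coprime l (Nat.card F) := (Nat.Prime.coprime_iff_not_dvd hl.prime).2 hl.not_dvd
  obtain ⟨p, hp⟩ := CharP.exists F
  have h3 := (CharP.cast_eq_zero_iff F p l).1 h0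
  have h4 := (CharP.cast_eq_zero_iff F p (Nat.card F)).1 h2
  have h5 : p ∣ 1 := by rw [← hc.gcd_eq_one]; exact Nat.dvd_gcd h3 h4
  have h6 : p = 1 := Nat.dvd_one.1 h5
  subst h6
  exact CharP.char_ne_one F 1 rfl

/-- the totally isotropic subspaces -/
structure Iso (H : HForm F V) (g : V ≃ₗ[F] V) (W : Submodule F V) : Prop where
  inv : ∀ v ∈ W, g v ∈ W
  ne_bot : W ≠ ⊥
  iso : ∀ v ∈ W, ∀ w ∈ W, H.h v w = 0
  nondeg : ∀ v ∈ W, v ≠ 0 → ∃ u, H.h v u ≠ 0
  dim : 2 * finrank F W ≤ finrank F V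

theorem ne_Fx (hl : Ppd (Nat.card F) e l) (hg : g ^ l = 1) (hi : H.IsIso g) {W : Submodule F V} (hW : Iso H g W) :
    W ≠ Fx g := by
  intro h
  obtain ⟨v, hv, hv0⟩ := (Submodule.ne_bot_iff _).1 hW.ne_bot
  obtain ⟨u, hu⟩ := hW.nondeg v hv hv0
  obtain ⟨u', h1, h2⟩ := exists_fix (cast_ne hl) hg hi (mem_Fx.1 (h ▸ hv)) hu
  exact h2 (hW.iso v hv u' (h ▸ (mem_Fx.2 h1)))

/-- `e = dim V - 1` -/
theorem odd_false (hN : 3 ≤ finrank F V) (hl : Ppd (Nat.card F) (finrank F V - 1) l) (hg : g ^ l = 1) (hg1 : g ≠ 1)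
    (hi : H.IsIso g) {W : Submodule F V} (hW : Iso H g W) : False := by
  have h1 := dvd_sub_top hl hg
  have h2 := finrank_Fx_lt hg1
  have h3 : finrank F (Fx g) = 1 := by
    obtain ⟨k, hk⟩ := h1
    rcases Nat.lt_or_ge k 2 with hk2 | hk2
    · interval_cases k <;> omega
    · have := Nat.mul_le_mul_left (finrank F V - 1) hk2
      omega
  have h4 := dvd_sub hl hg hW.inv
  have h5 : finrank F (W ⊓ Fx g : Submodule F V) ≤ 1 := by
    have := Submodule.finrank_mono (inf_le_right : W ⊓ Fx g ≤ Fx g)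
    omega
  have h5' : finrank F (W ⊓ Fx g : Submodule F V) ≤ finrank F W := Submodule.finrank_mono inf_le_left
  have hd := hW.dim
  have h6 : finrank F W = finrank F (W ⊓ Fx g : Submodule F V) := by
    by_contra hne
    have := Nat.le_of_dvd (by omega) h4
    omega
  have h7 : 0 < finrank F W := by
    rw [Nat.pos_iff_ne_zero, ne_eq, Submodule.finrank_eq_zero]
    exact hW.ne_bot
  have h8 : W ⊓ Fx g = W := Submodule.eq_of_le_of_finrank_eq inf_le_left h6.symm
  refine ne_Fx hl hg hi hW ?_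
  exact Submodule.eq_of_le_of_finrank_eq (inf_eq_left.1 h8) (by omega)

/-- `e = dim V - 2` -/
theorem plus_one (hN : 5 ≤ finrank F V) (hl : Ppd (Nat.card F) (finrank F V - 2) l) (hg : g ^ l = 1) (hg1 : g ≠ 1)
    (hi : H.IsIso g) {W : Submodule F V} (hW : Iso H g W) :
    finrank F (Fx g) = 2 ∧ finrank F W = 1 ∧ W ≤ Fx g := by
  have h1 := dvd_sub_top hl hg
  have h2 := finrank_Fx_lt hg1
  have h3 : finrank F (Fx g) = 2 := by
    obtain ⟨k, hk⟩ := h1
    rcases Nat.lt_or_ge k 2 with hk2 | hk2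
    · interval_cases k <;> omega
    · have := Nat.mul_le_mul_left (finrank F V - 2) hk2
      omega
  have h4 := dvd_sub hl hg hW.inv
  have h5 : finrank F (W ⊓ Fx g : Submodule F V) ≤ 2 := by
    have := Submodule.finrank_mono (inf_le_right : W ⊓ Fx g ≤ Fx g)
    omega
  have h5' : finrank F (W ⊓ Fx g : Submodule F V) ≤ finrank F W := Submodule.finrank_mono inf_le_left
  have hd := hW.dim
  have h6 : finrank F W = finrank F (W ⊓ Fx g : Submodule F V) := by
    by_contra hne
    have := Nat.le_of_dvd (by omega) h4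
    omega
  have h7 : 0 < finrank F W := by
    rw [Nat.pos_iff_ne_zero, ne_eq, Submodule.finrank_eq_zero]
    exact hW.ne_bot
  have h8 : W ⊓ Fx g = W := Submodule.eq_of_le_of_finrank_eq inf_le_left h6.symm
  have h9 : W ≤ Fx g := inf_eq_left.1 h8
  refine ⟨h3, ?_, h9⟩
  by_contra hne
  exact ne_Fx hl hg hi hW (Submodule.eq_of_le_of_finrank_eq h9 (by omega))

end Cfsg.Agent.H62.PCGeo
end
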