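import Mathlib
import Cfsg.Agent.H248.TwF4Dich
import Cfsg.Agent.H62.PPChev
import Cfsg.Agent.KFacts.TwF4.Irr
import Cfsg.Agent.S1068
import Cfsg.Agent.FastGrp
import Cfsg.Agent.Prune
set_option linter.all false
prune_inst 0x7f00000000000000000000000000000000000000000000000000000000000000000000000000000000000000000000000000000000000000000000000000000000000000000000000000000000000000003fffffffffffffffffffffffffffbeffbdffffffff
open scoped Cfsg.Agent.FastGrp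

/-!
# No subgroups of odd prime power index in `²F₄(q)` (helper62)
-/

set_option autoImplicit false
set_option linter.unusedSectionVars false

namespace Cfsg.Agent.H62.PPTwF4

open Cfsg.Agent.KFacts.TwF4 Cfsg.Agent.KFacts.TwF4.Full Cfsg.Agent.KFacts.TwF4.Arc
open Cfsg.Agent.KFacts.TwF4.Inv Cfsg.Agent.KFacts.TwF4.SylU
open Cfsg.Agent.SplitTwo Cfsg.Agent.SplitTwo.ZS Cfsg.Agent.TitsThree.RankTwoZ
open Cfsg.Agent.SplitTwo.RootSysZ Subgroup Cfsg Cfsg.Lie Cfsg.Agent.H248.Ovg Cfsg.Agent.H248.TwF4Over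
open Cfsg.Agent.H62.PPNum

universe u

theorem card_le_of_cover {G : Type*} [Group G] [Finite G] (M U T X : Subgroup G) (n : G)
    (h : ∀ g ∈ M, (∃ u ∈ U, ∃ t ∈ T, g = u * t) ∨ ∃ u ∈ U, ∃ t ∈ T, ∃ x ∈ X, g = u * t * n * x) :
    Nat.card M ≤ Nat.card U * (Nat.card T * (Nat.card X + 1)) := by
  classical
  let f : U × T × Option X → G := fun a => match a.2.2 with
    | none => a.1 * a.2.1
    | some x => a.1 * a.2.1 * n * x
  have hf : ∀ g : M, ∃ a, f a = g := by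
    rintro ⟨g, hg⟩
    rcases h g hg with ⟨u, hu, t, ht, e⟩ | ⟨u, hu, t, ht, x, hx, e⟩
    · exact ⟨(⟨u, hu⟩, ⟨t, ht⟩, none), e.symm⟩
    · exact ⟨(⟨u, hu⟩, ⟨t, ht⟩, some ⟨x, hx⟩), e.symm⟩
  choose c hc using hf
  have hinj : Function.Injective c := by
    intro a b e
    apply Subtype.ext
    rw [← hc a, ← hc b, e]
  have h1 := Nat.card_le_card_of_injective c hinj
  rwa [Nat.card_prod, Nat.card_prod, Finite.card_option] at h1

theorem proj_two {a n : ℕ} (hn : ¬ 2 ∣ n) : 2 ^ ((2 ^ a * n).factorization 2) = 2 ^ a := by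
  have hn0 : n ≠ 0 := by rintro rfl; exact hn (dvd_zero 2)
  rw [Nat.factorization_mul (by positivity) hn0, Nat.Prime.factorization_pow Nat.prime_two, Finsupp.add_apply,
    Finsupp.single_eq_same, Nat.factorization_eq_zero_of_not_dvd hn, add_zero]

variable {F : Type*} [Field F] {σ : F →+* F} {G : Type u} [Group G] (S : Full σ G)

theorem cover [Finite G] {M : Subgroup G} (hU : J S.XZ 1 8 ≤ M) (hM : M ≠ ⊤) :
    (∀ g ∈ M, (∃ u ∈ J S.XZ 1 8, ∃ t ∈ S.T, g = u * t) ∨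
      ∃ u ∈ J S.XZ 1 8, ∃ t ∈ S.T, ∃ x ∈ S.XZ 8, g = u * t * S.n2 * x) ∨
    (∀ g ∈ M, (∃ u ∈ J S.XZ 1 8, ∃ t ∈ S.T, g = u * t) ∨
      ∃ u ∈ J S.XZ 1 8, ∃ t ∈ S.T, ∃ x ∈ S.XZ 1, g = u * t * S.n1 * x) := by
  have Z := S.zsys8
  have C := cond_top S
  have hU' : J S.XZ 1 8 ⊓ ⊤ ≤ M := by rwa [inf_top_eq]
  have hNM : ¬ (⊤ : Subgroup G) ≤ M := fun h => hM (top_le_iff.1 h)
  -- elements of type `id`
  have hid : ∀ {b n b' : G}, b ∈ J S.XZ 1 8 → b' ∈ J S.XZ 1 8 → Maps S.R.X n (fun k => k) →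
      ∃ u ∈ J S.XZ 1 8, ∃ t ∈ S.T, b * n * b' = u * t := by
    intro b n b' hb hb' hn
    have hn' : n ∈ S.T := hn
    exact ⟨b * (n * b' * n⁻¹), mul_mem hb (S.T_conj_J hn' hb'), n, hn', by group⟩
  by_cases h0 : Pm S ⊤ M 0
  · have h9 : ¬ Pm S ⊤ M 9 := fun h9 => hNM (le_of_both C hU' h9 h0)
    left
    intro g hg
    obtain ⟨b, hb, t, ht, w, hw, b', hb', rfl⟩ := S.bruhat g
    have hg' : b * (t * w) * b' ∈ M := by rwa [← mul_assoc]
    rcases types C hU' hb hb' (torus_mul_maps C ht hw) hg' with h | h | ⟨-, h⟩ | ⟨h, -⟩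
    · exact absurd h hNM
    · left
      have := hid hb hb' h
      rwa [← mul_assoc] at this
    · exact absurd h h9
    · right
      have hT : t * w * S.n2 ∈ S.T := (h.mul S.n2_maps).congr fun k => by
        show (8 : ZMod (2 * 8)) - (8 - k) = k
        ring
      obtain ⟨x, hx, q, hq, rfl⟩ := Z.split_rl (a := 1) (b := 8) (by norm_num) (by norm_num) hb'
      have hq1 : x * q * x⁻¹ ∈ J S.XZ 1 7 :=
        Z.conj_J (a := 1) (b := 7) (c := 8) (d := 8) (by norm_num) (by norm_num) (by norm_num)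
          (mem_J hx (by norm_num) (by norm_num)) hq
      have hq2 : S.n2 * (x * q * x⁻¹) * S.n2⁻¹ ∈ J S.XZ 1 7 := S.n2_refl.mem_J hq1 (by norm_num) (by norm_num)
      have hq3 := S.T_conj_J hT (J_mono (by norm_num) (by norm_num) hq2 : _ ∈ J S.XZ 1 8)
      refine ⟨b * ((t * w * S.n2) * (S.n2 * (x * q * x⁻¹) * S.n2⁻¹) * (t * w * S.n2)⁻¹), mul_mem hb hq3,
        t * w * S.n2, hT, x, hx, ?_⟩
      have e : S.n2⁻¹ = S.n2 := Arc.n2_inv S
      calc b * t * w * (x * q) = b * (t * w) * (x * q * x⁻¹) * x := by group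
        _ = b * (t * w * S.n2) * S.n2⁻¹ * (x * q * x⁻¹) * x := by group
        _ = b * (t * w * S.n2) * S.n2 * (x * q * x⁻¹) * x := by rw [e]
        _ = _ := by rw [← e]; group
  · right
    intro g hg
    obtain ⟨b, hb, t, ht, w, hw, b', hb', rfl⟩ := S.bruhat g
    have hg' : b * (t * w) * b' ∈ M := by rwa [← mul_assoc]
    rcases types C hU' hb hb' (torus_mul_maps C ht hw) hg' with h | h | ⟨h, -⟩ | ⟨-, h⟩
    · exact absurd h hNM
    · left
      have := hid hb hb' h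
      rwa [← mul_assoc] at this
    · right
      have hT : t * w * S.n1 ∈ S.T := (h.mul (Arc.n1_maps S)).congr fun k => by
        show (10 : ZMod (2 * 8)) - (10 - k) = k
        ring
      obtain ⟨x, hx, q, hq, rfl⟩ := Z.split_ll (a := 1) (b := 8) (by norm_num) (by norm_num) hb'
      have hq1 : x * q * x⁻¹ ∈ J S.XZ 2 8 :=
        Z.conj_J (a := 2) (b := 8) (c := 1) (d := 1) (by norm_num) (by norm_num) (by norm_num)
          (mem_J hx (by norm_num) (by norm_num)) hq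
      have hq2 : S.n1 * (x * q * x⁻¹) * S.n1⁻¹ ∈ J S.XZ 2 8 := S.n1_refl.mem_J hq1 (by norm_num) (by norm_num)
      have hq3 := S.T_conj_J hT (J_mono (by norm_num) le_rfl hq2 : _ ∈ J S.XZ 1 8)
      refine ⟨b * ((t * w * S.n1) * (S.n1 * (x * q * x⁻¹) * S.n1⁻¹) * (t * w * S.n1)⁻¹), mul_mem hb hq3,
        t * w * S.n1, hT, x, hx, ?_⟩
      have e : S.n1⁻¹ = S.n1 := Arc.n1_inv S
      calc b * t * w * (x * q) = b * (t * w) * (x * q * x⁻¹) * x := by group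
        _ = b * (t * w * S.n1) * S.n1⁻¹ * (x * q * x⁻¹) * x := by group
        _ = b * (t * w * S.n1) * S.n1 * (x * q * x⁻¹) * x := by rw [e]
        _ = _ := by rw [← e]; group
    · exact absurd h h0

theorem card_T [Finite F] [Finite G] : Nat.card S.T ≤ (Nat.card F - 1) * (Nat.card F - 1) := by
  have : Fintype F := Fintype.ofFinite F
  have h1 : Nat.card Fˣ = Nat.card F - 1 := Nat.card_units F
  rw [← h1, ← Nat.card_prod]
  refine Nat.card_le_card_of_surjective (fun a : Fˣ × Fˣ => (⟨S.h a.1 a.2, S.mem_T.2 ⟨_, _, rfl⟩⟩ : S.T)) ?_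
  rintro ⟨t, ht⟩
  obtain ⟨c, d, rfl⟩ := S.mem_T.1 ht
  exact ⟨(c, d), rfl⟩

theorem card_X8 [Finite F] [Finite G] : Nat.card (S.XZ 8) ≤ Nat.card F * Nat.card F := by
  rw [← Nat.card_prod]
  refine Nat.card_le_card_of_surjective (fun a : F × F => (⟨S.e 4 a.1 a.2, (mem_X8 S).2 ⟨_, _, rfl⟩⟩ : S.XZ 8)) ?_
  rintro ⟨t, ht⟩
  obtain ⟨c, d, rfl⟩ := (mem_X8 S).1 ht
  exact ⟨(c, d), rfl⟩

theorem card_X1 [Finite F] [Finite G] : Nat.card (S.XZ 1) ≤ Nat.card F := by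
  refine Nat.card_le_card_of_surjective (fun a : F => (⟨S.o 0 a, (mem_X1 S).2 ⟨_, rfl⟩⟩ : S.XZ 1)) ?_
  rintro ⟨t, ht⟩
  obtain ⟨c, rfl⟩ := (mem_X1 S).1 ht
  exact ⟨c, rfl⟩

theorem card_M [Finite F] [Finite G] {M : Subgroup G} (hU : J S.XZ 1 8 ≤ M) (hM : M ≠ ⊤) :
    Nat.card M ≤ Nat.card (J S.XZ 1 8) * (((Nat.card F - 1) * (Nat.card F - 1)) * (Nat.card F * Nat.card F + 1)) := by
  have hF : 1 ≤ Nat.card F := Nat.card_pos
  rcases cover S hU hM with h | h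
  · refine (card_le_of_cover _ _ _ _ _ h).trans (Nat.mul_le_mul_left _ (Nat.mul_le_mul (card_T S) ?_))
    exact Nat.add_le_add_right (card_X8 S) 1
  · refine (card_le_of_cover _ _ _ _ _ h).trans (Nat.mul_le_mul_left _ (Nat.mul_le_mul (card_T S) ?_))
    refine Nat.add_le_add_right ((card_X1 S).trans ?_) 1
    nlinarith

theorem result {X : Type*} [Group X] [Finite X] (h : Iso2F4 X) {H : Subgroup X} {p k : ℕ} (hpp : p.Prime) (hp2 : p ≠ 2)
    (hk : 1 ≤ k) (hH : H.index = p ^ k) : False := by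
  obtain ⟨F, _, _, m, hm, hK, ⟨e⟩⟩ := h
  obtain ⟨φ, hφ⟩ := Cfsg.Agent.ChevalleyStructure.TwF4.TwistedFix.exists_rln hK
  have := Cfsg.Agent.ChevalleyStructure.TwF4.Twisted.charP_two hK
  have hfin : Finite ↥(twistedF4 F (2 ^ m)) := inferInstance
  have hfact : Fact (Nat.Prime 2) := ⟨Nat.prime_two⟩
  have hF : ∃ c : Fˣ, c ≠ 1 := by
    have h1 : 1 < Nat.card Fˣ := by
      rw [Nat.card_units, Nat.card_eq_fintype_card, hK]
      have : 2 ^ 3 ≤ 2 ^ (2 * m + 1) := Nat.pow_le_pow_right (by norm_num) (by omega)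
      omega
    have h2 : Nontrivial Fˣ := Finite.one_lt_card_iff_nontrivial.1 h1
    exact exists_ne 1
  obtain ⟨S, hS⟩ : ∃ S : Full φ ↥(twistedF4 F (2 ^ m)), S.R.p = 2 :=
    ⟨Cfsg.Agent.KFacts.TwF4.Inst.full hK hφ, rfl⟩
  set Y := ↥(twistedF4 F (2 ^ m)) with hY
  -- the order
  set q := 2 ^ (2 * m + 1) with hq
  have hq2 : 2 ≤ q := by
    rw [hq]
    calc 2 = 2 ^ 1 := rfl
      _ ≤ _ := Nat.pow_le_pow_right (by norm_num) (by omega)
  have hcard : Nat.card Y = q ^ 12 * (q - 1) * (q ^ 3 + 1) * (q ^ 4 - 1) * (q ^ 6 + 1) :=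
    Cfsg.Agent.S1068.result hK
  have hFc : Nat.card F = q := by rw [Nat.card_eq_fintype_card, hK]
  have heven : Even q := by
    rw [hq]; exact (even_two).pow_of_ne_zero (by omega)
  have hodd : ∀ n : ℕ, n ≠ 0 → Odd (q ^ n + 1) ∧ Odd (q ^ n - 1) := by
    intro n hn
    have h1 : Even (q ^ n) := heven.pow_of_ne_zero hn
    refine ⟨h1.add_one, ?_⟩
    exact Nat.Even.sub_odd (Nat.one_le_pow _ _ (by omega)) h1 odd_one
  -- `|U| = q^12`
  obtain ⟨P, hP⟩ := exists_sylow S hF hS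
  have hUc : Nat.card (J S.XZ 1 8) = q ^ 12 := by
    rw [← hP, P.card_eq_multiplicity]
    have h2 : ¬ 2 ∣ (q - 1) * (q ^ 3 + 1) * (q ^ 4 - 1) * (q ^ 6 + 1) := by
      rw [← even_iff_two_dvd, Nat.not_even_iff_odd]
      have h1 := (hodd 1 one_ne_zero).2
      rw [pow_one] at h1
      exact ((h1.mul (hodd 3 (by norm_num)).1).mul (hodd 4 (by norm_num)).2).mul (hodd 6 (by norm_num)).1
    have h3 : Nat.card Y = q ^ 12 * ((q - 1) * (q ^ 3 + 1) * (q ^ 4 - 1) * (q ^ 6 + 1)) := by rw [hcard]; ring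
    rw [h3]
    have e12 : q ^ 12 = 2 ^ ((2 * m + 1) * 12) := by rw [hq, ← pow_mul]
    rw [e12]
    exact proj_two h2
  -- transfer
  set H' : Subgroup Y := H.map e.toMonoidHom with hH'
  have hi : H'.index = p ^ k := by rw [← hH]; exact Subgroup.index_map_equiv H e
  have hidx : ¬ 2 ∣ H'.index := by
    rw [hi]
    intro h1
    exact hp2 ((Nat.prime_dvd_prime_iff_eq Nat.prime_two hpp).1 (Nat.prime_two.dvd_of_dvd_pow h1)).symm
  have hU2 : IsPGroup 2 (J S.XZ 1 8) := isPGroup_J S.zsys8 (two_X S hS) 8 1 8 (by norm_num) (by norm_num)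
  obtain ⟨g, hg⟩ := exists_conj_le (p := 2) hU2 hidx
  set M : Subgroup Y := H'.map (MulAut.conj g⁻¹).toMonoidHom with hMdef
  have hMi : M.index = p ^ k := by rw [← hi]; exact Subgroup.index_map_equiv H' (MulAut.conj g⁻¹)
  have hUM : J S.XZ 1 8 ≤ M := by
    intro u hu
    refine ⟨g * u * g⁻¹, hg ⟨u, hu, rfl⟩, ?_⟩
    change g⁻¹ * (g * u * g⁻¹) * g⁻¹⁻¹ = u
    group
  have hMt : M ≠ ⊤ := by
    intro h1
    rw [h1, Subgroup.index_top] at hMi
    have := Nat.one_lt_pow (n := k) (by omega) hpp.one_lt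
    omega
  have h1 := card_M S hUM hMt
  rw [hUc, hFc] at h1
  have h2 : Nat.card M * M.index = Nat.card Y := Subgroup.card_mul_index M
  -- comparison
  obtain ⟨a, ha⟩ : ∃ a, q = a + 1 := ⟨q - 1, by omega⟩
  have h3 : Nat.card Y = (q ^ 12 * (((q - 1) * (q - 1)) * (q * q + 1))) * ((q + 1) * (q ^ 3 + 1) * (q ^ 6 + 1)) := by
    rw [hcard]
    have e4 : q ^ 4 - 1 = (q - 1) * (q + 1) * (q * q + 1) := by
      rw [ha, Nat.add_sub_cancel]
      have : (a + 1) ^ 4 = a * (a + 1 + 1) * ((a + 1) * (a + 1) + 1) + 1 := by ring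
      rw [this, Nat.add_sub_cancel]
    rw [e4]
    ring
  have h4 : q ^ 9 ≤ M.index := by
    by_contra hcon
    push Not at hcon
    have h5 : q ^ 9 ≤ (q + 1) * (q ^ 3 + 1) * (q ^ 6 + 1) := by
      calc q ^ 9 ≤ q * q ^ 9 := Nat.le_mul_of_pos_left _ (by omega)
        _ = q * q ^ 3 * q ^ 6 := by ring
        _ ≤ _ := by gcongr <;> omega
    have h6 : Nat.card M * M.index < (q ^ 12 * (((q - 1) * (q - 1)) * (q * q + 1))) *
        ((q + 1) * (q ^ 3 + 1) * (q ^ 6 + 1)) := by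
      calc Nat.card M * M.index < Nat.card M * q ^ 9 :=
            Nat.mul_lt_mul_of_pos_left hcon Nat.card_pos
        _ ≤ _ := Nat.mul_le_mul h1 h5
    rw [h2, h3] at h6
    exact lt_irrefl _ h6
  refine PPChev.false_of (H := M) (N := 12) (ds := [1, 4, 6, 12]) hpp Nat.prime_two hp2 hq hq2 hMi h4 ok_F
    (fun h => absurd h hp2) ?_
  rw [hcard]
  simp only [List.map_cons, List.map_nil, List.prod_cons, List.prod_nil]
  have h5 : q ^ 3 + 1 ∣ q ^ 6 - 1 := ⟨q ^ 3 - 1, by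
    have := Nat.sq_sub_sq (q ^ 3) 1
    rwa [one_pow, ← pow_mul] at this⟩
  have h9 : q ^ 6 + 1 ∣ q ^ 12 - 1 := ⟨q ^ 6 - 1, by
    have := Nat.sq_sub_sq (q ^ 6) 1
    rwa [one_pow, ← pow_mul] at this⟩
  calc q ^ 12 * (q - 1) * (q ^ 3 + 1) * (q ^ 4 - 1) * (q ^ 6 + 1)
      = (q ^ 12 * (q - 1) * (q ^ 4 - 1)) * ((q ^ 3 + 1) * (q ^ 6 + 1)) := by ring
    _ ∣ (q ^ 12 * (q - 1) * (q ^ 4 - 1)) * ((q ^ 6 - 1) * (q ^ 12 - 1)) :=
        mul_dvd_mul_left _ (mul_dvd_mul h5 h9)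
    _ = _ := by rw [pow_one]; ring

end Cfsg.Agent.H62.PPTwF4
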