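import Cfsg.Agent.H62.GTwoSU
import Cfsg.Agent.H638.G2Iso
import Cfsg.Agent.TwoFusion.U34Sylow
import Cfsg.Agent.LieClassical.FieldTransfer
import Cfsg.Agent.LieClassical.SUBasic
import Cfsg.Agent.Prune
set_option linter.all false
prune_inst 0x7f00000000000000000000000000000000000000000000000000000000000000000000000000000000000000000000000000000000000000000000000000000000000000000000000000000000000000003fffffffffffffffffffffffffffbeffbdffffffff
open scoped Cfsg.Agent.FastGrp

/-!
# `PSL₃(4) → PSL₃(16)` and `PSU₃(4) → G₂(4)` (helper62, task 2449 for S5770)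
-/

set_option autoImplicit false

open Cfsg Cfsg.Lie

namespace Cfsg.Agent.H62.GTwoEmb

open Cfsg.Agent.H62.GTwoSU

section

variable {F : Type*} [Field F] [Fintype F]

theorem charP_two {k : ℕ} (hF : Fintype.card F = 2 ^ k) : CharP F 2 := by
  obtain ⟨p, hp⟩ := CharP.exists F
  obtain ⟨j, hj1, hj2⟩ := FiniteField.card F p
  have h1 : p ∣ 2 ^ k := by
    rw [← hF, hj2]
    exact dvd_pow_self p j.ne_zero
  have h2 := (Nat.prime_dvd_prime_iff_eq hj1 Nat.prime_two).1 (hj1.dvd_of_dvd_pow h1)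
  rwa [h2] at hp

theorem finrank_two [CharP F 2] [Algebra (ZMod 2) F] {k : ℕ} (hF : Fintype.card F = 2 ^ k) :
    Module.finrank (ZMod 2) F = k := by
  have h1 := Module.card_eq_pow_finrank (K := ZMod 2) (V := F)
  rw [hF, ZMod.card] at h1
  exact (Nat.pow_right_injective le_rfl h1).symm

theorem exists_ringHom {K : Type*} [Field K] [Fintype K] {k m : ℕ} (hF : Fintype.card F = 2 ^ k)
    (hK : Fintype.card K = 2 ^ m) (h : k ∣ m) : Nonempty (F →+* K) := by
  have : Fact (Nat.Prime 2) := ⟨Nat.prime_two⟩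
  have c1 := charP_two hF
  have c2 := charP_two hK
  let _ : Algebra (ZMod 2) F := ZMod.algebra F 2
  let _ : Algebra (ZMod 2) K := ZMod.algebra K 2
  obtain ⟨f⟩ := FiniteField.nonempty_algHom_of_finrank_dvd (F := ZMod 2) (K := F) (L := K) (by
    rw [finrank_two hF, finrank_two hK]
    exact h)
  exact ⟨f.toRingHom⟩

end

/-- A homomorphism of fields gives an injective homomorphism of projective special linear groups. -/
theorem psl_map {F K : Type*} [Field F] [Field K] (n : ℕ) (φ : F →+* K) :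
    ∃ f : Matrix.ProjectiveSpecialLinearGroup (Fin n) F →* Matrix.ProjectiveSpecialLinearGroup (Fin n) K,
      Function.Injective f := by
  let g : Matrix.SpecialLinearGroup (Fin n) F →* Matrix.SpecialLinearGroup (Fin n) K :=
    Matrix.SpecialLinearGroup.map φ
  have hg : ∀ (A : Matrix.SpecialLinearGroup (Fin n) F) (i j : Fin n), (g A : Matrix (Fin n) (Fin n) K) i j =
      φ ((A : Matrix (Fin n) (Fin n) F) i j) := fun A i j => rfl
  have key : ∀ A : Matrix.SpecialLinearGroup (Fin n) F, A ∈ Subgroup.center (Matrix.SpecialLinearGroup (Fin n) F) ↔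
      g A ∈ Subgroup.center (Matrix.SpecialLinearGroup (Fin n) K) := by
    intro A
    constructor
    · intro hA
      rw [Matrix.SpecialLinearGroup.mem_center_iff] at hA ⊢
      obtain ⟨r, hr, hA⟩ := hA
      refine ⟨φ r, by rw [← map_pow, hr, map_one], ?_⟩
      ext i j
      rw [hg, ← hA]
      by_cases hij : i = j
      · subst hij
        simp
      · simp [hij]
    · intro hA
      rw [Subgroup.mem_center_iff] at hA ⊢
      intro B
      have h1 := hA (g B)
      rw [← map_mul, ← map_mul] at h1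
      apply Subtype.ext
      ext i j
      apply φ.injective
      rw [← hg, ← hg, h1]
  refine ⟨QuotientGroup.map _ _ g (fun A hA => (key A).1 hA), ?_⟩
  rw [injective_iff_map_eq_one]
  intro x hx
  obtain ⟨A, rfl⟩ := QuotientGroup.mk_surjective x
  have hx' : (QuotientGroup.mk (g A) : Matrix.ProjectiveSpecialLinearGroup (Fin n) K) = 1 := hx
  exact (QuotientGroup.eq_one_iff A).2 ((key A).2 ((QuotientGroup.eq_one_iff _).1 hx'))

/-- **Task EMB (a).** -/
theorem psl_sub {F K : Type*} [Field F] [Fintype F] [Field K] [Fintype K] (hF : Fintype.card F = 4)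
    (hK : Fintype.card K = 16) : ∃ f : Matrix.ProjectiveSpecialLinearGroup (Fin 3) F →*
      Matrix.ProjectiveSpecialLinearGroup (Fin 3) K, Function.Injective f := by
  obtain ⟨φ⟩ := exists_ringHom (F := F) (K := K) (k := 2) (m := 4) (by rw [hF]; norm_num) (by rw [hK]; norm_num)
    (by norm_num)
  exact psl_map 3 φ

/-! ### `PSU₃(4)` -/

section

variable {F : Type*} [Field F] [Fintype F]

theorem exists_root (hF : Fintype.card F = 4) : ∃ n : F, n * n + n = 1 := by
  classical
  have c1 := charP_two (F := F) (k := 2) (by rw [hF]; norm_num)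
  have h2 : (2 : F) = 0 := CharP.cast_eq_zero F 2
  obtain ⟨n, hn⟩ : ∃ n : F, n ∉ ({0, 1} : Finset F) := by
    by_contra hcon
    push Not at hcon
    have h3 : (Finset.univ : Finset F) ⊆ {0, 1} := fun x _ => hcon x
    have h4 := Finset.card_le_card h3
    rw [Finset.card_univ, hF] at h4
    have h5 : ({0, 1} : Finset F).card ≤ 2 := Finset.card_le_two
    omega
  simp only [Finset.mem_insert, Finset.mem_singleton, not_or] at hn
  obtain ⟨h0, h1⟩ := hn
  have h4 : n ^ 4 = n := by
    rw [← hF]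
    exact FiniteField.pow_card n
  have h5 : n * ((n - 1) * (n * n + n - 1)) = 0 := by
    linear_combination h4 + (n - n * n) * h2
  refine ⟨n, ?_⟩
  rcases mul_eq_zero.1 h5 with h | h
  · exact absurd h h0
  rcases mul_eq_zero.1 h with h | h
  · exact absurd (sub_eq_zero.1 h) h1
  · exact sub_eq_zero.1 h

theorem irr (hF : Fintype.card F = 4) {n : F} (hn : n * n + n = 1) : ∀ r : F, r ^ 2 ≠ -n + 1 * r := by
  intro r hr
  have c1 := charP_two (F := F) (k := 2) (by rw [hF]; norm_num)
  have h2 : (2 : F) = 0 := CharP.cast_eq_zero F 2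
  have h4 : r ^ 4 = r := by
    rw [← hF]
    exact FiniteField.pow_card r
  have h5 : (1 : F) = 0 := by
    linear_combination h4 - (r ^ 2 + r - n + 1) * hr - hn + (n * r + n) * h2
  exact one_ne_zero h5

theorem star_eq (hF : Fintype.card F = 4) {n : F} (hn : n * n + n = 1) [Fact (∀ r : F, r ^ 2 ≠ -n + 1 * r)]
    (z : LL F n) : star z = z ^ 4 := by
  have c1 := charP_two (F := F) (k := 2) (by rw [hF]; norm_num)
  have h2 : (2 : F) = 0 := CharP.cast_eq_zero F 2
  have h4 : ∀ r : F, r ^ 4 = r := by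
    intro r
    conv_rhs => rw [← FiniteField.pow_card r, hF]
  obtain ⟨x, y⟩ := z
  have hx := h4 x
  have hy := h4 y
  have e : (⟨x, y⟩ : LL F n) ^ 4 = (⟨x, y⟩ * ⟨x, y⟩) * (⟨x, y⟩ * ⟨x, y⟩) := by
    rw [show (4 : ℕ) = 2 + 2 from rfl, pow_add, pow_two]
  rw [e]
  apply QuadraticAlgebra.ext
  · simp
    grind
  · simp
    grind

end

/-- **Task EMB (b).** -/
theorem psu_g2 {F K : Type*} [Field F] [Fintype F] [Field K] [Fintype K] (hF : Fintype.card F = 4)
    (hK : Fintype.card K = 16) : ∃ f : Cfsg.PSU 3 K 4 →* ↥(Cfsg.Lie.chevG2.group F), Function.Injective f := by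
  classical
  have c1 := charP_two (F := F) (k := 2) (by rw [hF]; norm_num)
  have h2 : (2 : F) = 0 := CharP.cast_eq_zero F 2
  obtain ⟨n, hn⟩ := exists_root hF
  have hirr : Fact (∀ r : F, r ^ 2 ≠ -n + 1 * r) := ⟨irr hF hn⟩
  let _ : Fintype (LL F n) := Fintype.ofEquiv _ (QuadraticAlgebra.equivProd (-n) 1).symm
  have hL : Fintype.card (LL F n) = 16 := by
    rw [Fintype.ofEquiv_card, Fintype.card_prod, hF]
  let m : SU 3 (LL F n) 4 →* Matrix (Fin 3) (Fin 3) (LL F n) := (slToMat 3 (LL F n)).comp (SU 3 (LL F n) 4).subtype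
  have hm : ∀ g, m g = ((g : Matrix.SpecialLinearGroup (Fin 3) (LL F n)) : Matrix (Fin 3) (Fin 3) (LL F n)) :=
    fun g => rfl
  obtain ⟨f0, hf0⟩ := exists_act (F := F) (n := n) h2 m (fun g h hgh => Subtype.ext (Subtype.ext hgh)) (by
    intro g
    refine Matrix.ext fun k j => ?_
    have h1 := (LieClassical.SUBasic.mem_SU_iff _).1 g.2 (Pi.single j 1) (Pi.single k 1)
    rw [Matrix.mulVec_single_one, Matrix.mulVec_single_one] at h1
    rw [Matrix.mul_apply]
    simp only [hermForm, Fin.sum_univ_three, Matrix.col_apply] at h1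
    rw [Fin.sum_univ_three]
    simp only [Matrix.star_apply, star_eq hF hn]
    rw [Matrix.one_apply]
    rw [show (m g 0 k ^ 4 * m g 0 j + m g 1 k ^ 4 * m g 1 j + m g 2 k ^ 4 * m g 2 j) =
      (m g 0 j * m g 0 k ^ 4 + m g 1 j * m g 1 k ^ 4 + m g 2 j * m g 2 k ^ 4) by ring]
    rw [hm]
    rw [h1]
    fin_cases j <;> fin_cases k <;> simp) (fun g => (g : Matrix.SpecialLinearGroup (Fin 3) (LL F n)).2)
  obtain ⟨e⟩ := Cfsg.Agent.H638.G2Iso.equiv (F := F)
  have hcen : Subgroup.center (SU 3 (LL F n) 4) = ⊥ := TwoFusion.U34Sylow.center_eq_bot hL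
  let e1 : PSU 3 (LL F n) 4 ≃* SU 3 (LL F n) 4 :=
    (QuotientGroup.quotientMulEquivOfEq hcen).trans QuotientGroup.quotientBot
  let e2 : PSU 3 K 4 ≃* PSU 3 (LL F n) 4 :=
    LieClassical.FieldTransfer.psuCongr 3 4 (FiniteField.ringEquivOfCardEq (by rw [hK, hL]))
  refine ⟨e.toMonoidHom.comp (f0.comp (e1.toMonoidHom.comp e2.toMonoidHom)), ?_⟩
  exact e.injective.comp (hf0.comp (e1.injective.comp e2.injective))

end Cfsg.Agent.H62.GTwoEmb
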